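/- A group 2^(1+4).S3 as a table (generated). -/
import Cfsg.Agent.SPOR.A10.Reg
set_option autoImplicit false
set_option maxRecDepth 100000

namespace CL.E32.Am.Ea
open CL.CE CL.K

noncomputable def tT0 : ℕ := nat_lit 0x75a5d0223385
noncomputable def tJ0 : ℕ := nat_lit 0x9150
noncomputable def tD0 : ℕ := nat_lit 0x700a004800000
noncomputable def tT : Tr := (.leaf tT0)
noncomputable def tJ : Tr := (.leaf tJ0)
noncomputable def tD : Tr := (.leaf tD0)

def rels : List (List ℕ) := [[0,1],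
  [1,0],
  [0,0,0,0]]
def subs : List (List ℕ) := []
def iv (a : ℕ) : ℕ := [1,0,2].getD a 0
noncomputable def RR0 : List Rule := [.bwd [1] 0 0 0]
noncomputable def RR1 : List Rule := [.bwd [0] 1 0 0,
  .bwd [1,1,1] 2 1 1]
noncomputable def RR : List (List Rule) := [RR0, RR1]
noncomputable def rowp (j : ℕ) : ℕ := piece tT (nat_lit 3) (nat_lit 7) (nat_lit 3072) (Nat.pred (Nat.shiftLeft 1 (nat_lit 3072))) j
noncomputable def row (u : ℕ) : ℕ := rowOf rowp (nat_lit 8) (nat_lit 255) (nat_lit 12) u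
noncomputable def jrowp (j : ℕ) : ℕ := piece tJ (nat_lit 3) (nat_lit 7) (nat_lit 4096) (Nat.pred (Nat.shiftLeft 1 (nat_lit 4096))) j
noncomputable def jrow (u : ℕ) : ℕ := rowOf jrowp (nat_lit 10) (nat_lit 1023) (nat_lit 4) u
noncomputable def drowp (j : ℕ) : ℕ := piece tD (nat_lit 3) (nat_lit 7) (nat_lit 3328) (Nat.pred (Nat.shiftLeft 1 (nat_lit 3328))) j
noncomputable def drow (u : ℕ) : ℕ := rowOf drowp (nat_lit 8) (nat_lit 255) (nat_lit 13) u
noncomputable def cert : PCert := ⟨(nat_lit 2), (nat_lit 2), (nat_lit 3), (nat_lit 6), (nat_lit 63), (nat_lit 62), (nat_lit 4), (nat_lit 3), (nat_lit 3), (nat_lit 2), (nat_lit 3), (nat_lit 2), (nat_lit 3), (nat_lit 8191), (nat_lit 0), row, jrow, drow, RR⟩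
theorem params : cert.paramsOK = true := by decide +kernel
theorem rules : rulesOK rels subs iv cert.L cert.LL cert.RR = true := by decide +kernel
theorem blk0 : cert.alive (nat_lit 0) (nat_lit 1) (nat_lit 4) = 0 := by decide +kernel
theorem up0 : cert.Upto 0 := PCert.upto_zero _
theorem up1 : cert.Upto 4 := up0.alive params blk0 (by decide)

theorem covers {G : Type*} [Group G] {g : ℕ → G} {H : Subgroup G}
    (h : Sat g H 2 iv rels subs) : Covers g 2 H 4 :=
  PCert.covers (p := cert) params rules (by decide +kernel) up1 h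

end CL.E32.Am.Ea

namespace CL.E32.Am.Eab
open CL.CE CL.K

noncomputable def tT0 : ℕ := nat_lit 0x5222f3b482
noncomputable def tJ0 : ℕ := nat_lit 0x5615
noncomputable def tD0 : ℕ := nat_lit 0x101800
noncomputable def tT : Tr := (.leaf tT0)
noncomputable def tJ : Tr := (.leaf tJ0)
noncomputable def tD : Tr := (.leaf tD0)

def rels : List (List ℕ) := [[0,1],
  [1,0],
  [2,3],
  [3,2],
  [0,0,0,0],
  [0,0,3,3],
  [2,0,3,0]]
def subs : List (List ℕ) := [[0],
  [1]]
def iv (a : ℕ) : ℕ := [1,0,3,2,4].getD a 0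
noncomputable def RR0 : List Rule := [.sub [] [] 0 0,
  .bwd [2,0,3] 6 3 0]
noncomputable def RR1 : List Rule := [.bwd [0] 1 0 0]
noncomputable def RR2 : List Rule := [.bwd [3] 2 0 0]
noncomputable def RR3 : List Rule := [.bwd [0,0,3] 5 3 0]
noncomputable def RR : List (List Rule) := [RR0, RR1, RR2, RR3]
noncomputable def rowp (j : ℕ) : ℕ := piece tT (nat_lit 3) (nat_lit 7) (nat_lit 2560) (Nat.pred (Nat.shiftLeft 1 (nat_lit 2560))) j
noncomputable def row (u : ℕ) : ℕ := rowOf rowp (nat_lit 7) (nat_lit 127) (nat_lit 20) u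
noncomputable def jrowp (j : ℕ) : ℕ := piece tJ (nat_lit 3) (nat_lit 7) (nat_lit 4096) (Nat.pred (Nat.shiftLeft 1 (nat_lit 4096))) j
noncomputable def jrow (u : ℕ) : ℕ := rowOf jrowp (nat_lit 9) (nat_lit 511) (nat_lit 8) u
noncomputable def drowp (j : ℕ) : ℕ := piece tD (nat_lit 3) (nat_lit 7) (nat_lit 2816) (Nat.pred (Nat.shiftLeft 1 (nat_lit 2816))) j
noncomputable def drow (u : ℕ) : ℕ := rowOf drowp (nat_lit 8) (nat_lit 255) (nat_lit 11) u
noncomputable def cert : PCert := ⟨(nat_lit 4), (nat_lit 4), (nat_lit 1), (nat_lit 5), (nat_lit 31), (nat_lit 30), (nat_lit 2), (nat_lit 1), (nat_lit 1), (nat_lit 2), (nat_lit 3), (nat_lit 2), (nat_lit 3), (nat_lit 2047), (nat_lit 0), row, jrow, drow, RR⟩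
theorem params : cert.paramsOK = true := by decide +kernel
theorem rules : rulesOK rels subs iv cert.L cert.LL cert.RR = true := by decide +kernel
theorem blk0 : cert.alive (nat_lit 0) (nat_lit 1) (nat_lit 2) = 0 := by decide +kernel
theorem up0 : cert.Upto 0 := PCert.upto_zero _
theorem up1 : cert.Upto 2 := up0.alive params blk0 (by decide)

theorem covers {G : Type*} [Group G] {g : ℕ → G} {H : Subgroup G}
    (h : Sat g H 4 iv rels subs) : Covers g 4 H 2 :=
  PCert.covers (p := cert) params rules (by decide +kernel) up1 h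

end CL.E32.Am.Eab

namespace CL.E32.Am.Eabc
open CL.CE CL.K

noncomputable def tT0 : ℕ := nat_lit 0x73337acd7141882
noncomputable def tJ0 : ℕ := nat_lit 0x566155
noncomputable def tD0 : ℕ := nat_lit 0x102800
noncomputable def tT : Tr := (.leaf tT0)
noncomputable def tJ : Tr := (.leaf tJ0)
noncomputable def tD : Tr := (.leaf tD0)

def rels : List (List ℕ) := [[0,1],
  [1,0],
  [2,3],
  [3,2],
  [4,5],
  [5,4],
  [0,0,0,0],
  [0,0,3,3],
  [2,0,3,0],
  [0,0,5,5],
  [0,4,1,5],
  [2,4,3,5]]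
def subs : List (List ℕ) := [[0],
  [1],
  [2],
  [3]]
def iv (a : ℕ) : ℕ := [1,0,3,2,5,4,6].getD a 0
noncomputable def RR0 : List Rule := [.sub [] [] 0 0,
  .bwd [4,1,5] 10 0 0]
noncomputable def RR1 : List Rule := [.bwd [0] 1 0 0]
noncomputable def RR2 : List Rule := [.sub [] [] 2 0,
  .bwd [4,3,5] 11 0 0]
noncomputable def RR3 : List Rule := [.bwd [2] 3 0 0]
noncomputable def RR4 : List Rule := [.bwd [5] 4 0 0]
noncomputable def RR5 : List Rule := [.bwd [0,0,5] 9 3 0]
noncomputable def RR : List (List Rule) := [RR0, RR1, RR2, RR3, RR4, RR5]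
noncomputable def rowp (j : ℕ) : ℕ := piece tT (nat_lit 3) (nat_lit 7) (nat_lit 3840) (Nat.pred (Nat.shiftLeft 1 (nat_lit 3840))) j
noncomputable def row (u : ℕ) : ℕ := rowOf rowp (nat_lit 7) (nat_lit 127) (nat_lit 30) u
noncomputable def jrowp (j : ℕ) : ℕ := piece tJ (nat_lit 3) (nat_lit 7) (nat_lit 3072) (Nat.pred (Nat.shiftLeft 1 (nat_lit 3072))) j
noncomputable def jrow (u : ℕ) : ℕ := rowOf jrowp (nat_lit 8) (nat_lit 255) (nat_lit 12) u
noncomputable def drowp (j : ℕ) : ℕ := piece tD (nat_lit 3) (nat_lit 7) (nat_lit 2816) (Nat.pred (Nat.shiftLeft 1 (nat_lit 2816))) j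
noncomputable def drow (u : ℕ) : ℕ := rowOf drowp (nat_lit 8) (nat_lit 255) (nat_lit 11) u
noncomputable def cert : PCert := ⟨(nat_lit 6), (nat_lit 6), (nat_lit 1), (nat_lit 5), (nat_lit 31), (nat_lit 30), (nat_lit 2), (nat_lit 1), (nat_lit 1), (nat_lit 2), (nat_lit 3), (nat_lit 2), (nat_lit 3), (nat_lit 2047), (nat_lit 0), row, jrow, drow, RR⟩
theorem params : cert.paramsOK = true := by decide +kernel
theorem rules : rulesOK rels subs iv cert.L cert.LL cert.RR = true := by decide +kernel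
theorem blk0 : cert.alive (nat_lit 0) (nat_lit 1) (nat_lit 2) = 0 := by decide +kernel
theorem up0 : cert.Upto 0 := PCert.upto_zero _
theorem up1 : cert.Upto 2 := up0.alive params blk0 (by decide)

theorem covers {G : Type*} [Group G] {g : ℕ → G} {H : Subgroup G}
    (h : Sat g H 6 iv rels subs) : Covers g 6 H 2 :=
  PCert.covers (p := cert) params rules (by decide +kernel) up1 h

end CL.E32.Am.Eabc

namespace CL.E32.Am.Eabcd
open CL.CE CL.K

noncomputable def tT0 : ℕ := nat_lit 0x49065785f75b3d530a206102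
noncomputable def tJ0 : ℕ := nat_lit 0x56661555
noncomputable def tD0 : ℕ := nat_lit 0x103800
noncomputable def tT : Tr := (.leaf tT0)
noncomputable def tJ : Tr := (.leaf tJ0)
noncomputable def tD : Tr := (.leaf tD0)

def rels : List (List ℕ) := [[0,1],
  [1,0],
  [2,3],
  [3,2],
  [4,5],
  [5,4],
  [6,7],
  [7,6],
  [0,0,0,0],
  [0,0,3,3],
  [2,0,3,0],
  [0,0,5,5],
  [0,0,7,7],
  [6,4,7,4],
  [0,4,1,5],
  [0,6,1,7],
  [2,4,3,5],
  [2,6,3,7]]
def subs : List (List ℕ) := [[0],
  [1],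
  [2],
  [3],
  [4],
  [5]]
def iv (a : ℕ) : ℕ := [1,0,3,2,5,4,7,6,8].getD a 0
noncomputable def RR0 : List Rule := [.sub [] [] 0 0,
  .bwd [6,1,7] 15 0 0]
noncomputable def RR1 : List Rule := [.bwd [0] 1 0 0]
noncomputable def RR2 : List Rule := [.sub [] [] 2 0,
  .bwd [6,3,7] 17 0 0]
noncomputable def RR3 : List Rule := [.bwd [2] 3 0 0]
noncomputable def RR4 : List Rule := [.sub [] [] 4 0,
  .bwd [6,4,7] 13 3 0]
noncomputable def RR5 : List Rule := [.bwd [4] 5 0 0]
noncomputable def RR6 : List Rule := [.bwd [7] 6 0 0]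
noncomputable def RR7 : List Rule := [.bwd [0,0,7] 12 3 0]
noncomputable def RR : List (List Rule) := [RR0, RR1, RR2, RR3, RR4, RR5, RR6, RR7]
noncomputable def rowp (j : ℕ) : ℕ := piece tT (nat_lit 3) (nat_lit 7) (nat_lit 3072) (Nat.pred (Nat.shiftLeft 1 (nat_lit 3072))) j
noncomputable def row (u : ℕ) : ℕ := rowOf rowp (nat_lit 6) (nat_lit 63) (nat_lit 48) u
noncomputable def jrowp (j : ℕ) : ℕ := piece tJ (nat_lit 3) (nat_lit 7) (nat_lit 4096) (Nat.pred (Nat.shiftLeft 1 (nat_lit 4096))) j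
noncomputable def jrow (u : ℕ) : ℕ := rowOf jrowp (nat_lit 8) (nat_lit 255) (nat_lit 16) u
noncomputable def drowp (j : ℕ) : ℕ := piece tD (nat_lit 3) (nat_lit 7) (nat_lit 2816) (Nat.pred (Nat.shiftLeft 1 (nat_lit 2816))) j
noncomputable def drow (u : ℕ) : ℕ := rowOf drowp (nat_lit 8) (nat_lit 255) (nat_lit 11) u
noncomputable def cert : PCert := ⟨(nat_lit 8), (nat_lit 8), (nat_lit 1), (nat_lit 6), (nat_lit 63), (nat_lit 62), (nat_lit 2), (nat_lit 1), (nat_lit 1), (nat_lit 2), (nat_lit 3), (nat_lit 2), (nat_lit 3), (nat_lit 2047), (nat_lit 0), row, jrow, drow, RR⟩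
theorem params : cert.paramsOK = true := by decide +kernel
theorem rules : rulesOK rels subs iv cert.L cert.LL cert.RR = true := by decide +kernel
theorem blk0 : cert.alive (nat_lit 0) (nat_lit 1) (nat_lit 2) = 0 := by decide +kernel
theorem up0 : cert.Upto 0 := PCert.upto_zero _
theorem up1 : cert.Upto 2 := up0.alive params blk0 (by decide)

theorem covers {G : Type*} [Group G] {g : ℕ → G} {H : Subgroup G}
    (h : Sat g H 8 iv rels subs) : Covers g 8 H 2 :=
  PCert.covers (p := cert) params rules (by decide +kernel) up1 h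

end CL.E32.Am.Eabcd

namespace CL.E32.Am.Eabcdx
open CL.CE CL.K

noncomputable def tT0 : ℕ := nat_lit 0x28d4f5db566e5bb15e513a4c572d60bd62b6d254070c142030404
noncomputable def tJ0 : ℕ := nat_lit 0x555554555546666
noncomputable def tD0 : ℕ := nat_lit 0x908408000
noncomputable def tT : Tr := (.leaf tT0)
noncomputable def tJ : Tr := (.leaf tJ0)
noncomputable def tD : Tr := (.leaf tD0)

def rels : List (List ℕ) := [[0,1],
  [1,0],
  [2,3],
  [3,2],
  [4,5],
  [5,4],
  [6,7],
  [7,6],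
  [8,9],
  [9,8],
  [0,0,0,0],
  [0,0,3,3],
  [2,0,3,0],
  [0,0,5,5],
  [0,0,7,7],
  [6,4,7,4],
  [0,4,1,5],
  [0,6,1,7],
  [2,4,3,5],
  [2,6,3,7],
  [8,8,8],
  [8,0,9,3],
  [8,2,9,3,1],
  [8,4,9,7],
  [8,6,9,7,5]]
def subs : List (List ℕ) := [[0],
  [1],
  [2],
  [3],
  [4],
  [5],
  [6],
  [7]]
def iv (a : ℕ) : ℕ := [1,0,3,2,5,4,7,6,9,8,10].getD a 0
noncomputable def RR0 : List Rule := [.bwd [9,3,8] 21 1 0,
  .sub [] [] 0 0]
noncomputable def RR1 : List Rule := [.bwd [0] 1 0 0]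
noncomputable def RR2 : List Rule := [.bwd [9,3,1,8] 22 1 0,
  .sub [] [] 2 0]
noncomputable def RR3 : List Rule := [.bwd [2] 3 0 0]
noncomputable def RR4 : List Rule := [.bwd [9,7,8] 23 1 0,
  .sub [] [] 4 0]
noncomputable def RR5 : List Rule := [.bwd [4] 5 0 0]
noncomputable def RR6 : List Rule := [.bwd [9,7,5,8] 24 1 0,
  .sub [] [] 6 0]
noncomputable def RR7 : List Rule := [.bwd [6] 7 0 0]
noncomputable def RR8 : List Rule := [.bwd [8,8] 20 1 0]
noncomputable def RR9 : List Rule := [.bwd [8] 9 0 0]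
noncomputable def RR : List (List Rule) := [RR0, RR1, RR2, RR3, RR4, RR5, RR6, RR7, RR8, RR9]
noncomputable def rowp (j : ℕ) : ℕ := piece tT (nat_lit 3) (nat_lit 7) (nat_lit 2240) (Nat.pred (Nat.shiftLeft 1 (nat_lit 2240))) j
noncomputable def row (u : ℕ) : ℕ := rowOf rowp (nat_lit 5) (nat_lit 31) (nat_lit 70) u
noncomputable def jrowp (j : ℕ) : ℕ := piece tJ (nat_lit 3) (nat_lit 7) (nat_lit 2560) (Nat.pred (Nat.shiftLeft 1 (nat_lit 2560))) j
noncomputable def jrow (u : ℕ) : ℕ := rowOf jrowp (nat_lit 7) (nat_lit 127) (nat_lit 20) u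
noncomputable def drowp (j : ℕ) : ℕ := piece tD (nat_lit 3) (nat_lit 7) (nat_lit 3072) (Nat.pred (Nat.shiftLeft 1 (nat_lit 3072))) j
noncomputable def drow (u : ℕ) : ℕ := rowOf drowp (nat_lit 8) (nat_lit 255) (nat_lit 12) u
noncomputable def cert : PCert := ⟨(nat_lit 10), (nat_lit 10), (nat_lit 3), (nat_lit 7), (nat_lit 127), (nat_lit 126), (nat_lit 3), (nat_lit 2), (nat_lit 2), (nat_lit 2), (nat_lit 3), (nat_lit 2), (nat_lit 3), (nat_lit 4095), (nat_lit 0), row, jrow, drow, RR⟩
theorem params : cert.paramsOK = true := by decide +kernel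
theorem rules : rulesOK rels subs iv cert.L cert.LL cert.RR = true := by decide +kernel
theorem blk0 : cert.alive (nat_lit 0) (nat_lit 1) (nat_lit 3) = 0 := by decide +kernel
theorem up0 : cert.Upto 0 := PCert.upto_zero _
theorem up1 : cert.Upto 3 := up0.alive params blk0 (by decide)

theorem covers {G : Type*} [Group G] {g : ℕ → G} {H : Subgroup G}
    (h : Sat g H 10 iv rels subs) : Covers g 10 H 3 :=
  PCert.covers (p := cert) params rules (by decide +kernel) up1 h

end CL.E32.Am.Eabcdx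

namespace CL.E32.Am.Eabcdxt
open CL.CE CL.K

noncomputable def tT0 : ℕ := nat_lit 0x62e75bb6ba6796385fc5751240e30a206102
noncomputable def tJ0 : ℕ := nat_lit 0x555555466666
noncomputable def tD0 : ℕ := nat_lit 0x105000
noncomputable def tT : Tr := (.leaf tT0)
noncomputable def tJ : Tr := (.leaf tJ0)
noncomputable def tD : Tr := (.leaf tD0)

def rels : List (List ℕ) := [[0,1],
  [1,0],
  [2,3],
  [3,2],
  [4,5],
  [5,4],
  [6,7],
  [7,6],
  [8,9],
  [9,8],
  [10,11],
  [11,10],
  [0,0,0,0],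
  [0,0,3,3],
  [2,0,3,0],
  [0,0,5,5],
  [0,0,7,7],
  [6,4,7,4],
  [0,4,1,5],
  [0,6,1,7],
  [2,4,3,5],
  [2,6,3,7],
  [8,8,8],
  [8,0,9,3],
  [8,2,9,3,1],
  [8,4,9,7],
  [8,6,9,7,5],
  [10,8,11,8],
  [10,0,11,2],
  [10,2,11,0],
  [10,4,11,6],
  [10,6,11,4],
  [10,10,0,0]]
def subs : List (List ℕ) := [[0],
  [1],
  [2],
  [3],
  [4],
  [5],
  [6],
  [7],
  [8],
  [9]]
def iv (a : ℕ) : ℕ := [1,0,3,2,5,4,7,6,9,8,11,10,12].getD a 0
noncomputable def RR0 : List Rule := [.bwd [11,2,10] 28 1 0,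
  .sub [] [] 0 0]
noncomputable def RR1 : List Rule := [.bwd [0] 1 0 0]
noncomputable def RR2 : List Rule := [.bwd [11,0,10] 29 1 0,
  .sub [] [] 2 0]
noncomputable def RR3 : List Rule := [.bwd [2] 3 0 0]
noncomputable def RR4 : List Rule := [.bwd [11,6,10] 30 1 0,
  .sub [] [] 4 0]
noncomputable def RR5 : List Rule := [.bwd [4] 5 0 0]
noncomputable def RR6 : List Rule := [.bwd [11,4,10] 31 1 0,
  .sub [] [] 6 0]
noncomputable def RR7 : List Rule := [.bwd [6] 7 0 0]
noncomputable def RR8 : List Rule := [.bwd [11,8,10] 27 1 0,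
  .sub [] [] 8 0]
noncomputable def RR9 : List Rule := [.bwd [8] 9 0 0]
noncomputable def RR10 : List Rule := [.bwd [0,0,10] 32 1 0]
noncomputable def RR11 : List Rule := [.bwd [10] 11 0 0]
noncomputable def RR : List (List Rule) := [RR0, RR1, RR2, RR3, RR4, RR5, RR6, RR7, RR8, RR9, RR10, RR11]
noncomputable def rowp (j : ℕ) : ℕ := piece tT (nat_lit 3) (nat_lit 7) (nat_lit 2304) (Nat.pred (Nat.shiftLeft 1 (nat_lit 2304))) j
noncomputable def row (u : ℕ) : ℕ := rowOf rowp (nat_lit 5) (nat_lit 31) (nat_lit 72) u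
noncomputable def jrowp (j : ℕ) : ℕ := piece tJ (nat_lit 3) (nat_lit 7) (nat_lit 3072) (Nat.pred (Nat.shiftLeft 1 (nat_lit 3072))) j
noncomputable def jrow (u : ℕ) : ℕ := rowOf jrowp (nat_lit 7) (nat_lit 127) (nat_lit 24) u
noncomputable def drowp (j : ℕ) : ℕ := piece tD (nat_lit 3) (nat_lit 7) (nat_lit 2816) (Nat.pred (Nat.shiftLeft 1 (nat_lit 2816))) j
noncomputable def drow (u : ℕ) : ℕ := rowOf drowp (nat_lit 8) (nat_lit 255) (nat_lit 11) u
noncomputable def cert : PCert := ⟨(nat_lit 12), (nat_lit 12), (nat_lit 1), (nat_lit 6), (nat_lit 63), (nat_lit 62), (nat_lit 2), (nat_lit 1), (nat_lit 1), (nat_lit 2), (nat_lit 3), (nat_lit 2), (nat_lit 3), (nat_lit 2047), (nat_lit 0), row, jrow, drow, RR⟩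
theorem params : cert.paramsOK = true := by decide +kernel
theorem rules : rulesOK rels subs iv cert.L cert.LL cert.RR = true := by decide +kernel
theorem blk0 : cert.alive (nat_lit 0) (nat_lit 1) (nat_lit 2) = 0 := by decide +kernel
theorem up0 : cert.Upto 0 := PCert.upto_zero _
theorem up1 : cert.Upto 2 := up0.alive params blk0 (by decide)

theorem covers {G : Type*} [Group G] {g : ℕ → G} {H : Subgroup G}
    (h : Sat g H 12 iv rels subs) : Covers g 12 H 2 :=
  PCert.covers (p := cert) params rules (by decide +kernel) up1 h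

end CL.E32.Am.Eabcdxt

namespace CL.E32.Am
open CL.CE CL.K CL.Reg

def iv (a : ℕ) : ℕ := [1,0,3,2,5,4,7,6,9,8,11,10].getD a a
def Rels : List (List ℕ) := [[0,1], [1,0], [2,3], [3,2], [4,5], [5,4], [6,7], [7,6], [8,9], [9,8], [10,11], [11,10], [0,0,0,0], [0,0,3,3], [2,0,3,0], [0,0,5,5], [0,0,7,7], [6,4,7,4], [0,4,1,5], [0,6,1,7], [2,4,3,5], [2,6,3,7], [8,8,8], [8,0,9,3], [8,2,9,3,1], [8,4,9,7], [8,6,9,7,5], [10,8,11,8], [10,0,11,2], [10,2,11,0], [10,4,11,6], [10,6,11,4], [10,10,0,0]]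

theorem idx_a {G : Type*} [Group G] {g : ℕ → G} (h : Pres g iv Rels) :
    IdxLe (gen g []) (gen g [[0], [1]]) 4 :=
  h.idxLe _ _ CL.E32.Am.Ea.covers (by decide +kernel)

theorem le_a {G : Type*} [Group G] {g : ℕ → G} (h : Pres g iv Rels) :
    CardLe (gen g [[0], [1]]) 4 :=
  (idx_a h).cardLe (cardLe_nil g) (by norm_num)

theorem idx_ab {G : Type*} [Group G] {g : ℕ → G} (h : Pres g iv Rels) :
    IdxLe (gen g [[0], [1]]) (gen g [[0], [1], [2], [3]]) 2 :=
  h.idxLe _ _ CL.E32.Am.Eab.covers (by decide +kernel)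

theorem le_ab {G : Type*} [Group G] {g : ℕ → G} (h : Pres g iv Rels) :
    CardLe (gen g [[0], [1], [2], [3]]) 8 :=
  (idx_ab h).cardLe (le_a h) (by norm_num)

theorem idx_abc {G : Type*} [Group G] {g : ℕ → G} (h : Pres g iv Rels) :
    IdxLe (gen g [[0], [1], [2], [3]]) (gen g [[0], [1], [2], [3], [4], [5]]) 2 :=
  h.idxLe _ _ CL.E32.Am.Eabc.covers (by decide +kernel)

theorem le_abc {G : Type*} [Group G] {g : ℕ → G} (h : Pres g iv Rels) :
    CardLe (gen g [[0], [1], [2], [3], [4], [5]]) 16 :=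
  (idx_abc h).cardLe (le_ab h) (by norm_num)

theorem idx_abcd {G : Type*} [Group G] {g : ℕ → G} (h : Pres g iv Rels) :
    IdxLe (gen g [[0], [1], [2], [3], [4], [5]]) (gen g [[0], [1], [2], [3], [4], [5], [6], [7]]) 2 :=
  h.idxLe _ _ CL.E32.Am.Eabcd.covers (by decide +kernel)

theorem le_abcd {G : Type*} [Group G] {g : ℕ → G} (h : Pres g iv Rels) :
    CardLe (gen g [[0], [1], [2], [3], [4], [5], [6], [7]]) 32 :=
  (idx_abcd h).cardLe (le_abc h) (by norm_num)

theorem idx_abcdx {G : Type*} [Group G] {g : ℕ → G} (h : Pres g iv Rels) :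
    IdxLe (gen g [[0], [1], [2], [3], [4], [5], [6], [7]]) (gen g [[0], [1], [2], [3], [4], [5], [6], [7], [8], [9]]) 3 :=
  h.idxLe _ _ CL.E32.Am.Eabcdx.covers (by decide +kernel)

theorem le_abcdx {G : Type*} [Group G] {g : ℕ → G} (h : Pres g iv Rels) :
    CardLe (gen g [[0], [1], [2], [3], [4], [5], [6], [7], [8], [9]]) 96 :=
  (idx_abcdx h).cardLe (le_abcd h) (by norm_num)

theorem idx_abcdxt {G : Type*} [Group G] {g : ℕ → G} (h : Pres g iv Rels) :
    IdxLe (gen g [[0], [1], [2], [3], [4], [5], [6], [7], [8], [9]]) (gen g [[0], [1], [2], [3], [4], [5], [6], [7], [8], [9], [10], [11]]) 2 :=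
  h.idxLe _ _ CL.E32.Am.Eabcdxt.covers (by decide +kernel)

theorem le_abcdxt {G : Type*} [Group G] {g : ℕ → G} (h : Pres g iv Rels) :
    CardLe (gen g [[0], [1], [2], [3], [4], [5], [6], [7], [8], [9], [10], [11]]) 192 :=
  (idx_abcdxt h).cardLe (le_abcdx h) (by norm_num)

noncomputable def H_T : ℕ := nat_lit 0x9190bbbd95949293a5a496979091babc94959392a4a597968b8abfbbb5b48c8da3a28e8f8a8bbebab4b58d8ca2a38f8e8584bdbf8687b6b78889aeaf8485bcbe8786b7b68988afae818094b78c8db4b59f9e8283808195b68d8cb5b49e9f83827d7cb994b2b3bbba7e7faaab7c7db895b3b2babb7f7eabaa797892b3bcbdb9b89b9a7a7b787993b2bdbcb8b99a9b7b7a7574b592b7b686877677a6a77475b493b6b787867776a7a66f6ea4afa9a870718e8fa2a36e6fa5aea8a971708f8ea3a26b6ab1a46c6daaaba0a1bbba6a6bb0a56d6cabaaa1a0babb696567ab7071a8a982839e9f656966aa7170a9a883829f9e6864ad67a6a7afae9c9db7b66468ac66a7a6aeaf9d9cb6b7635f61a7b0b1adac7a7b9a9b5f6360a6b1b0acad7b7a9b9a625ea961abaa6c6d9899b3b25e62a860aaab6d6c9998b2b35d5caeb067666061bebf72735c5daf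b166676160bfbe7372595896a19b9a5a5bbcbdb1b0585997a09a9b5b5abdbcb0b15554a39656579c9dafae88895455a29757569d9caeaf8988534f519d5a5b9a9bb8b9adac4f53509c5b5a9b9ab9b8acad524e9f519899a1a0abaa7e7f4e529e509998a0a1aaab7f7e4d494b99a2a39f9eb4b5a9a8494d4a98a3a29e9fb5b4a8a94c489b4b9d9c5657a7a67677484c9a4a9c9d5756a6a777764746a0a251504a4b7273bfbe4647a1a350514b4a7372bebf4342b6b8bebf4445676650514243b7b9bfbe4544666751504140b2b44445bfbe61604a4b4041b3b54544bebf60614b4abebf8b854140424347465c5dbfbe8a844041434246475d5c3b3a72897b7a3c3db1b0bdbc3a3b73887a7b3d3cb0b1bcbd39384487b9b8bdbc5b5a3c3d38394586b8b9bcbd5a5b3d3cbcbd8591393878793b3a5859bdbc8490383979783a3b595835348f7236377e7fbbbaa1a034358e7337367f7ebabba0a133328d44bbbab3b236376c6d32338c45babbb2b337366d6cbabb918b7d7c33326b6a3534bbba908a7c7d32336a6b3435312d2f7f3c3d7a7badacb9b82d312e7e3d3c7b7aacadb8b9b8b97d4279783938312d4f53b9b87c43787938392d31534f302c832f76778988b7b69d9c2c30822e77768889b6b79c9db6b74281848575746864302cb7b6438085847475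64682c302b2729778e8f8382a9a8b5b4272b28768f8e8283a8a9b4b5b4b5754080818b8a2b27494db5b4744181808a8b272b4d492a267b297f7e3637b3b29998262a7a287e7f3736b2b39899b2b3407933327c7d625e2a26b3b2417832337d7c5e62262a2524888e2f2e28299796a5a42425898f2e2f29289697a4a5231f216dadacb1b03c3d5a5b1f23206cacadb0b13d3c5b5ab0b16b5c231f5f6359583b3ab1b06a5d1f23635f58593a3b221e7121afaea7a6565787861e227020aeafa6a757568687aeaf5c6f6864221e84855554afae5d6e64681e2285845455acad681d635f231f534f312daaab1d696a6b625e7c7d524e1d1cabada4a5202194952e2f1c1daaaca5a4212095942f2eadac641c5f631f234f532d31abaa1c656b6a5e627d7c4e52a8a9621b65696f6e4d492b27a6a71b63221e646874754c481b1aa7a92021a5a4929328291a1ba6a82120a4a593922928a9a85e1a69656e6f494d272ba7a61a5f1e2268647574484ca4a56e6a1b1a1c1d25249190a5a46f6b1a1b1d1c24259091191517579f9ea3a28c8d7170151916569e9fa2a38d8c7071a2a355461915494d6e6f8b8aa3a2544715194d496f6e8a8b18145b17a1a099986d6c363714185a16a0a198996c6d3736a0a14659524e181435346a6ba1a047584e52141834356b6a9e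9f52134d491915656981809c9d135354554c48302c646813129d9f969716172e2f959412139c9e979617162f2e94959f9e4e12494d1519696580819d9c124f5554484c2c3068649a9b4c114f5359585f6379789899114d18144e522a265e621110999b16179796282993921011989a17169697292892939b9a4810534f5859635f7879999810491418524e262a625e9697585411101213909125249796595510111312919024250f0e868c93929594212016170e0f878d92939495202117169495807c0f0e919013121c1d9594817d0e0f909112131d1c9293787490910f0e11101a1b9392797591900e0f10111b1a3c3d3e0d3a3b2d3138391f2336370d3f262a3435141832333f0a0c3783828f8e71708d8c0a3f0b3682838e8f70718c8d8e8f35243f0a272b8a8b6e6f8f8e34250a3f2b278b8a6f6e8c8d330e8a8b80813f0a15198d8c320f8b8a81800a3f19153e093d0c8988777687865756093e3c0b88897677868756578889243b302c3e09545584858988253a2c30093e5554858486870e3974758485221e3e0987860f38757485841e22093e828330082b273f0a808165697e7f083134352a264e527c7d08077f8372730b0c5150676607087e8273720c0b5051666783822c07272b0a3f818069657f7e072d3534262a524e7d7c7a7b2a062d31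3b3a78795f637677062b3e092c30484c74750605777b0b0c73724b4a61600506767a0c0b72734a4b60617b7a2605312d3a3b7978635f77760527093e302c4c48757472733a34060507085c5d464773723b35050608075d5c4746707122046e6f656919153f0a6c6d04235e626a6b3233181404036d716160676644450b0c03046c706061666745440c0b71701e036f6e696515190a3f6d6c031f625e6b6a333214186667696804035d5c080743426766656403045c5d07084243606163625c5d04030605414061605f5e5d5c0304050640415a5b180258594f531f23393856570219484c54553e091e220201575b4b4a51500b0c45440102565a4a4b50510c0b44455b5a14015958534f231f3839575601154c485554093e221e50515352020147464243080751504f4e01024647434207084a4b4d4c46470201404106054b4a494847460102414005064445383242434041020103044544393343424140010204030b0c3f3e07080506030401020d00373d29282f2e17162120000d363c28292e2f161720213d3c09003b3a312d3938231f3736000a2a263534181433322e2f31300d0025241c1d12132f2e2d2c000d24251d1c131228292b2a24250d001a1b1011292827262524000d1b1a1110202123221c1d1a1b0d000f0e21201f1e1d1c1b1a000d0e0f16171918121310110e0f0d0017161514131211100f0e000d0c0b0a090807060504030201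
noncomputable def H_W : ℕ := nat_lit 0xc7531b75310c73a0b73a0c5190b5190c3a70b3a70c1970b1970c3a50b3a50c1950b1950c7a30b7a30c5930b5930ca730ba730c9730b9730ca530ba530c9530b9530c7530b7530c7a10b7a10c5910b5910ca710ba710c9710b9710ca510ba510c9510b9510c7510b7510c7310b7310c5310b531085310753100c7a00b7a00c3a00b3a0083a0073a00c5900b5900c1900b19006190051900ca700ba7004a7003a700c9700b97002970019700ca500ba5004a5003a500c9500b95002950019500c7500b7500ca300ba3008a3007a300c9300b93006930059300a830098300c7300b7300a730097300a630096300c5300b5300a5300953008530075300ca100ba1008a1007a100c9100b91006910059100a810098100c7100b7100a710097100a610096100c5100b5100a5100951008510075100c3100b310083100731006310053100a1100911000ca000ba0008a0007a0004a0003a000c9000b900069000590002900019000a800098000c7000b7000a700097000a600096000c5000b5000a5000950008500075000a400094000c3000b3000a30009300083000730006300053000a200092000c1000b1000a100091000810007100061000510004100031000110000c0000b0000a00009000080000700006000050000400003000020000100000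
noncomputable def H_I : ℕ := nat_lit 0xbebf9a9baaab9e9faeafa2a3a6a7a8a9b6b7acadbabbb0b1b2b39697b4b59c9db8b9a0a1bcbd9899a4a59293949591907a7b5a5b68647e7f6c6d4d498283625e888959588e8f6b6a7677534f72737071524e868779784c8b4a4b488a5581505154805d5c8c8d7d7c5657635f756f6061746e85696667846547464445434241403e3f3c3d2c301e223637272b1519263a28292a3b342d2e2f353124251438161718391d1c1b1a321f20213323131211100e0f0d0b0c090a070805060304010200
noncomputable def H_dat : Dat := ⟨nat_lit 192, nat_lit 12, nat_lit 5, [1,0,3,2,5,4,7,6,9,8,11,10], tb (nat_lit 12) (nat_lit 8) (nat_lit 255) H_T,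
  fld (nat_lit 20) (nat_lit 1048575) H_W, fld (nat_lit 8) (nat_lit 255) H_I⟩
theorem H_chk : H_dat.Chk Rels :=
  Dat.chk_of (a := 12) (b := 16) (by decide +kernel) rfl (by decide +kernel)
theorem H_good : H_dat.Good Rels := H_chk.good fun _ hg => le_abcdxt hg
/-- the group of the table -/
abbrev H : Type := RG H_dat H_good
theorem H_hom {G : Type*} [Group G] {g : ℕ → G} (hg : Pres g iv Rels) :
    ∃ φ : H →* G, φ.range = gen g [[0], [1], [2], [3], [4], [5], [6], [7], [8], [9], [10], [11]] ∧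
      ∀ w : List ℕ, ltAll 12 w = true → φ (RG.wd H_good w) = ev g w :=
  RG.exists_hom hg fun _ hg' => le_abcdxt hg'

noncomputable def a : H := RG.mk' H_good (nat_lit 1)
noncomputable def b : H := RG.mk' H_good (nat_lit 3)
noncomputable def c : H := RG.mk' H_good (nat_lit 5)
noncomputable def d : H := RG.mk' H_good (nat_lit 7)
noncomputable def x : H := RG.mk' H_good (nat_lit 9)
noncomputable def s : H := RG.mk' H_good (nat_lit 13)
noncomputable def t : H := RG.mk' H_good (nat_lit 11)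
theorem wd_a : RG.wd H_good [0] = a := by decide +kernel
theorem wd_b : RG.wd H_good [2] = b := by decide +kernel
theorem wd_c : RG.wd H_good [4] = c := by decide +kernel
theorem wd_d : RG.wd H_good [6] = d := by decide +kernel
theorem wd_x : RG.wd H_good [8] = x := by decide +kernel
theorem wd_t : RG.wd H_good [10] = t := by decide +kernel

end CL.E32.Am
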