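/- A group 2^(1+4).S3 as a table (generated). -/
import Cfsg.Agent.SPOR.A10.Reg
set_option autoImplicit false
set_option maxRecDepth 100000

namespace CL.E32.Ap.Ea
open CL.CE CL.K

noncomputable def tT0 : ℕ := nat_lit 0x75a5d0223385
noncomputable def tJ0 : ℕ := nat_lit 0x9150
noncomputable def tD0 : ℕ := nat_lit 0x700a004800000
noncomputable def tT : Tr := (.leaf tT0)
noncomputable def tJ : Tr := (.leaf tJ0)
noncomputable def tD : Tr := (.leaf tD0)

def rels : List (List ℕ) := [[0,1],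
  [1,0],
  [0,0,0,0]]
def subs : List (List ℕ) := []
def iv (a : ℕ) : ℕ := [1,0,2].getD a 0
noncomputable def RR0 : List Rule := [.bwd [1] 0 0 0]
noncomputable def RR1 : List Rule := [.bwd [0] 1 0 0,
  .bwd [1,1,1] 2 1 1]
noncomputable def RR : List (List Rule) := [RR0, RR1]
noncomputable def rowp (j : ℕ) : ℕ := piece tT (nat_lit 3) (nat_lit 7) (nat_lit 3072) (Nat.pred (Nat.shiftLeft 1 (nat_lit 3072))) j
noncomputable def row (u : ℕ) : ℕ := rowOf rowp (nat_lit 8) (nat_lit 255) (nat_lit 12) u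
noncomputable def jrowp (j : ℕ) : ℕ := piece tJ (nat_lit 3) (nat_lit 7) (nat_lit 4096) (Nat.pred (Nat.shiftLeft 1 (nat_lit 4096))) j
noncomputable def jrow (u : ℕ) : ℕ := rowOf jrowp (nat_lit 10) (nat_lit 1023) (nat_lit 4) u
noncomputable def drowp (j : ℕ) : ℕ := piece tD (nat_lit 3) (nat_lit 7) (nat_lit 3328) (Nat.pred (Nat.shiftLeft 1 (nat_lit 3328))) j
noncomputable def drow (u : ℕ) : ℕ := rowOf drowp (nat_lit 8) (nat_lit 255) (nat_lit 13) u
noncomputable def cert : PCert := ⟨(nat_lit 2), (nat_lit 2), (nat_lit 3), (nat_lit 6), (nat_lit 63), (nat_lit 62), (nat_lit 4), (nat_lit 3), (nat_lit 3), (nat_lit 2), (nat_lit 3), (nat_lit 2), (nat_lit 3), (nat_lit 8191), (nat_lit 0), row, jrow, drow, RR⟩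
theorem params : cert.paramsOK = true := by decide +kernel
theorem rules : rulesOK rels subs iv cert.L cert.LL cert.RR = true := by decide +kernel
theorem blk0 : cert.alive (nat_lit 0) (nat_lit 1) (nat_lit 4) = 0 := by decide +kernel
theorem up0 : cert.Upto 0 := PCert.upto_zero _
theorem up1 : cert.Upto 4 := up0.alive params blk0 (by decide)

theorem covers {G : Type*} [Group G] {g : ℕ → G} {H : Subgroup G}
    (h : Sat g H 2 iv rels subs) : Covers g 2 H 4 :=
  PCert.covers (p := cert) params rules (by decide +kernel) up1 h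

end CL.E32.Ap.Ea

namespace CL.E32.Ap.Eab
open CL.CE CL.K

noncomputable def tT0 : ℕ := nat_lit 0x5222f3b482
noncomputable def tJ0 : ℕ := nat_lit 0x5615
noncomputable def tD0 : ℕ := nat_lit 0x101800
noncomputable def tT : Tr := (.leaf tT0)
noncomputable def tJ : Tr := (.leaf tJ0)
noncomputable def tD : Tr := (.leaf tD0)

def rels : List (List ℕ) := [[0,1],
  [1,0],
  [2,3],
  [3,2],
  [0,0,0,0],
  [0,0,3,3],
  [2,0,3,0]]
def subs : List (List ℕ) := [[0],
  [1]]
def iv (a : ℕ) : ℕ := [1,0,3,2,4].getD a 0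
noncomputable def RR0 : List Rule := [.sub [] [] 0 0,
  .bwd [2,0,3] 6 3 0]
noncomputable def RR1 : List Rule := [.bwd [0] 1 0 0]
noncomputable def RR2 : List Rule := [.bwd [3] 2 0 0]
noncomputable def RR3 : List Rule := [.bwd [0,0,3] 5 3 0]
noncomputable def RR : List (List Rule) := [RR0, RR1, RR2, RR3]
noncomputable def rowp (j : ℕ) : ℕ := piece tT (nat_lit 3) (nat_lit 7) (nat_lit 2560) (Nat.pred (Nat.shiftLeft 1 (nat_lit 2560))) j
noncomputable def row (u : ℕ) : ℕ := rowOf rowp (nat_lit 7) (nat_lit 127) (nat_lit 20) u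
noncomputable def jrowp (j : ℕ) : ℕ := piece tJ (nat_lit 3) (nat_lit 7) (nat_lit 4096) (Nat.pred (Nat.shiftLeft 1 (nat_lit 4096))) j
noncomputable def jrow (u : ℕ) : ℕ := rowOf jrowp (nat_lit 9) (nat_lit 511) (nat_lit 8) u
noncomputable def drowp (j : ℕ) : ℕ := piece tD (nat_lit 3) (nat_lit 7) (nat_lit 2816) (Nat.pred (Nat.shiftLeft 1 (nat_lit 2816))) j
noncomputable def drow (u : ℕ) : ℕ := rowOf drowp (nat_lit 8) (nat_lit 255) (nat_lit 11) u
noncomputable def cert : PCert := ⟨(nat_lit 4), (nat_lit 4), (nat_lit 1), (nat_lit 5), (nat_lit 31), (nat_lit 30), (nat_lit 2), (nat_lit 1), (nat_lit 1), (nat_lit 2), (nat_lit 3), (nat_lit 2), (nat_lit 3), (nat_lit 2047), (nat_lit 0), row, jrow, drow, RR⟩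
theorem params : cert.paramsOK = true := by decide +kernel
theorem rules : rulesOK rels subs iv cert.L cert.LL cert.RR = true := by decide +kernel
theorem blk0 : cert.alive (nat_lit 0) (nat_lit 1) (nat_lit 2) = 0 := by decide +kernel
theorem up0 : cert.Upto 0 := PCert.upto_zero _
theorem up1 : cert.Upto 2 := up0.alive params blk0 (by decide)

theorem covers {G : Type*} [Group G] {g : ℕ → G} {H : Subgroup G}
    (h : Sat g H 4 iv rels subs) : Covers g 4 H 2 :=
  PCert.covers (p := cert) params rules (by decide +kernel) up1 h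

end CL.E32.Ap.Eab

namespace CL.E32.Ap.Eabc
open CL.CE CL.K

noncomputable def tT0 : ℕ := nat_lit 0x73337acd7141882
noncomputable def tJ0 : ℕ := nat_lit 0x566155
noncomputable def tD0 : ℕ := nat_lit 0x102800
noncomputable def tT : Tr := (.leaf tT0)
noncomputable def tJ : Tr := (.leaf tJ0)
noncomputable def tD : Tr := (.leaf tD0)

def rels : List (List ℕ) := [[0,1],
  [1,0],
  [2,3],
  [3,2],
  [4,5],
  [5,4],
  [0,0,0,0],
  [0,0,3,3],
  [2,0,3,0],
  [0,0,5,5],
  [0,4,1,5],
  [2,4,3,5]]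
def subs : List (List ℕ) := [[0],
  [1],
  [2],
  [3]]
def iv (a : ℕ) : ℕ := [1,0,3,2,5,4,6].getD a 0
noncomputable def RR0 : List Rule := [.sub [] [] 0 0,
  .bwd [4,1,5] 10 0 0]
noncomputable def RR1 : List Rule := [.bwd [0] 1 0 0]
noncomputable def RR2 : List Rule := [.sub [] [] 2 0,
  .bwd [4,3,5] 11 0 0]
noncomputable def RR3 : List Rule := [.bwd [2] 3 0 0]
noncomputable def RR4 : List Rule := [.bwd [5] 4 0 0]
noncomputable def RR5 : List Rule := [.bwd [0,0,5] 9 3 0]
noncomputable def RR : List (List Rule) := [RR0, RR1, RR2, RR3, RR4, RR5]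
noncomputable def rowp (j : ℕ) : ℕ := piece tT (nat_lit 3) (nat_lit 7) (nat_lit 3840) (Nat.pred (Nat.shiftLeft 1 (nat_lit 3840))) j
noncomputable def row (u : ℕ) : ℕ := rowOf rowp (nat_lit 7) (nat_lit 127) (nat_lit 30) u
noncomputable def jrowp (j : ℕ) : ℕ := piece tJ (nat_lit 3) (nat_lit 7) (nat_lit 3072) (Nat.pred (Nat.shiftLeft 1 (nat_lit 3072))) j
noncomputable def jrow (u : ℕ) : ℕ := rowOf jrowp (nat_lit 8) (nat_lit 255) (nat_lit 12) u
noncomputable def drowp (j : ℕ) : ℕ := piece tD (nat_lit 3) (nat_lit 7) (nat_lit 2816) (Nat.pred (Nat.shiftLeft 1 (nat_lit 2816))) j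
noncomputable def drow (u : ℕ) : ℕ := rowOf drowp (nat_lit 8) (nat_lit 255) (nat_lit 11) u
noncomputable def cert : PCert := ⟨(nat_lit 6), (nat_lit 6), (nat_lit 1), (nat_lit 5), (nat_lit 31), (nat_lit 30), (nat_lit 2), (nat_lit 1), (nat_lit 1), (nat_lit 2), (nat_lit 3), (nat_lit 2), (nat_lit 3), (nat_lit 2047), (nat_lit 0), row, jrow, drow, RR⟩
theorem params : cert.paramsOK = true := by decide +kernel
theorem rules : rulesOK rels subs iv cert.L cert.LL cert.RR = true := by decide +kernel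
theorem blk0 : cert.alive (nat_lit 0) (nat_lit 1) (nat_lit 2) = 0 := by decide +kernel
theorem up0 : cert.Upto 0 := PCert.upto_zero _
theorem up1 : cert.Upto 2 := up0.alive params blk0 (by decide)

theorem covers {G : Type*} [Group G] {g : ℕ → G} {H : Subgroup G}
    (h : Sat g H 6 iv rels subs) : Covers g 6 H 2 :=
  PCert.covers (p := cert) params rules (by decide +kernel) up1 h

end CL.E32.Ap.Eabc

namespace CL.E32.Ap.Eabcd
open CL.CE CL.K

noncomputable def tT0 : ℕ := nat_lit 0x49065785f75b3d530a206102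
noncomputable def tJ0 : ℕ := nat_lit 0x56661555
noncomputable def tD0 : ℕ := nat_lit 0x103800
noncomputable def tT : Tr := (.leaf tT0)
noncomputable def tJ : Tr := (.leaf tJ0)
noncomputable def tD : Tr := (.leaf tD0)

def rels : List (List ℕ) := [[0,1],
  [1,0],
  [2,3],
  [3,2],
  [4,5],
  [5,4],
  [6,7],
  [7,6],
  [0,0,0,0],
  [0,0,3,3],
  [2,0,3,0],
  [0,0,5,5],
  [0,0,7,7],
  [6,4,7,4],
  [0,4,1,5],
  [0,6,1,7],
  [2,4,3,5],
  [2,6,3,7]]
def subs : List (List ℕ) := [[0],
  [1],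
  [2],
  [3],
  [4],
  [5]]
def iv (a : ℕ) : ℕ := [1,0,3,2,5,4,7,6,8].getD a 0
noncomputable def RR0 : List Rule := [.sub [] [] 0 0,
  .bwd [6,1,7] 15 0 0]
noncomputable def RR1 : List Rule := [.bwd [0] 1 0 0]
noncomputable def RR2 : List Rule := [.sub [] [] 2 0,
  .bwd [6,3,7] 17 0 0]
noncomputable def RR3 : List Rule := [.bwd [2] 3 0 0]
noncomputable def RR4 : List Rule := [.sub [] [] 4 0,
  .bwd [6,4,7] 13 3 0]
noncomputable def RR5 : List Rule := [.bwd [4] 5 0 0]
noncomputable def RR6 : List Rule := [.bwd [7] 6 0 0]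
noncomputable def RR7 : List Rule := [.bwd [0,0,7] 12 3 0]
noncomputable def RR : List (List Rule) := [RR0, RR1, RR2, RR3, RR4, RR5, RR6, RR7]
noncomputable def rowp (j : ℕ) : ℕ := piece tT (nat_lit 3) (nat_lit 7) (nat_lit 3072) (Nat.pred (Nat.shiftLeft 1 (nat_lit 3072))) j
noncomputable def row (u : ℕ) : ℕ := rowOf rowp (nat_lit 6) (nat_lit 63) (nat_lit 48) u
noncomputable def jrowp (j : ℕ) : ℕ := piece tJ (nat_lit 3) (nat_lit 7) (nat_lit 4096) (Nat.pred (Nat.shiftLeft 1 (nat_lit 4096))) j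
noncomputable def jrow (u : ℕ) : ℕ := rowOf jrowp (nat_lit 8) (nat_lit 255) (nat_lit 16) u
noncomputable def drowp (j : ℕ) : ℕ := piece tD (nat_lit 3) (nat_lit 7) (nat_lit 2816) (Nat.pred (Nat.shiftLeft 1 (nat_lit 2816))) j
noncomputable def drow (u : ℕ) : ℕ := rowOf drowp (nat_lit 8) (nat_lit 255) (nat_lit 11) u
noncomputable def cert : PCert := ⟨(nat_lit 8), (nat_lit 8), (nat_lit 1), (nat_lit 6), (nat_lit 63), (nat_lit 62), (nat_lit 2), (nat_lit 1), (nat_lit 1), (nat_lit 2), (nat_lit 3), (nat_lit 2), (nat_lit 3), (nat_lit 2047), (nat_lit 0), row, jrow, drow, RR⟩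
theorem params : cert.paramsOK = true := by decide +kernel
theorem rules : rulesOK rels subs iv cert.L cert.LL cert.RR = true := by decide +kernel
theorem blk0 : cert.alive (nat_lit 0) (nat_lit 1) (nat_lit 2) = 0 := by decide +kernel
theorem up0 : cert.Upto 0 := PCert.upto_zero _
theorem up1 : cert.Upto 2 := up0.alive params blk0 (by decide)

theorem covers {G : Type*} [Group G] {g : ℕ → G} {H : Subgroup G}
    (h : Sat g H 8 iv rels subs) : Covers g 8 H 2 :=
  PCert.covers (p := cert) params rules (by decide +kernel) up1 h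

end CL.E32.Ap.Eabcd

namespace CL.E32.Ap.Eabcdx
open CL.CE CL.K

noncomputable def tT0 : ℕ := nat_lit 0x28d4f5db566e5bb15e513a4c572d60bd62b6d254070c142030404
noncomputable def tJ0 : ℕ := nat_lit 0x555554555546666
noncomputable def tD0 : ℕ := nat_lit 0x908408000
noncomputable def tT : Tr := (.leaf tT0)
noncomputable def tJ : Tr := (.leaf tJ0)
noncomputable def tD : Tr := (.leaf tD0)

def rels : List (List ℕ) := [[0,1],
  [1,0],
  [2,3],
  [3,2],
  [4,5],
  [5,4],
  [6,7],
  [7,6],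
  [8,9],
  [9,8],
  [0,0,0,0],
  [0,0,3,3],
  [2,0,3,0],
  [0,0,5,5],
  [0,0,7,7],
  [6,4,7,4],
  [0,4,1,5],
  [0,6,1,7],
  [2,4,3,5],
  [2,6,3,7],
  [8,8,8],
  [8,0,9,3],
  [8,2,9,3,1],
  [8,4,9,7],
  [8,6,9,7,5]]
def subs : List (List ℕ) := [[0],
  [1],
  [2],
  [3],
  [4],
  [5],
  [6],
  [7]]
def iv (a : ℕ) : ℕ := [1,0,3,2,5,4,7,6,9,8,10].getD a 0
noncomputable def RR0 : List Rule := [.bwd [9,3,8] 21 1 0,
  .sub [] [] 0 0]
noncomputable def RR1 : List Rule := [.bwd [0] 1 0 0]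
noncomputable def RR2 : List Rule := [.bwd [9,3,1,8] 22 1 0,
  .sub [] [] 2 0]
noncomputable def RR3 : List Rule := [.bwd [2] 3 0 0]
noncomputable def RR4 : List Rule := [.bwd [9,7,8] 23 1 0,
  .sub [] [] 4 0]
noncomputable def RR5 : List Rule := [.bwd [4] 5 0 0]
noncomputable def RR6 : List Rule := [.bwd [9,7,5,8] 24 1 0,
  .sub [] [] 6 0]
noncomputable def RR7 : List Rule := [.bwd [6] 7 0 0]
noncomputable def RR8 : List Rule := [.bwd [8,8] 20 1 0]
noncomputable def RR9 : List Rule := [.bwd [8] 9 0 0]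
noncomputable def RR : List (List Rule) := [RR0, RR1, RR2, RR3, RR4, RR5, RR6, RR7, RR8, RR9]
noncomputable def rowp (j : ℕ) : ℕ := piece tT (nat_lit 3) (nat_lit 7) (nat_lit 2240) (Nat.pred (Nat.shiftLeft 1 (nat_lit 2240))) j
noncomputable def row (u : ℕ) : ℕ := rowOf rowp (nat_lit 5) (nat_lit 31) (nat_lit 70) u
noncomputable def jrowp (j : ℕ) : ℕ := piece tJ (nat_lit 3) (nat_lit 7) (nat_lit 2560) (Nat.pred (Nat.shiftLeft 1 (nat_lit 2560))) j
noncomputable def jrow (u : ℕ) : ℕ := rowOf jrowp (nat_lit 7) (nat_lit 127) (nat_lit 20) u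
noncomputable def drowp (j : ℕ) : ℕ := piece tD (nat_lit 3) (nat_lit 7) (nat_lit 3072) (Nat.pred (Nat.shiftLeft 1 (nat_lit 3072))) j
noncomputable def drow (u : ℕ) : ℕ := rowOf drowp (nat_lit 8) (nat_lit 255) (nat_lit 12) u
noncomputable def cert : PCert := ⟨(nat_lit 10), (nat_lit 10), (nat_lit 3), (nat_lit 7), (nat_lit 127), (nat_lit 126), (nat_lit 3), (nat_lit 2), (nat_lit 2), (nat_lit 2), (nat_lit 3), (nat_lit 2), (nat_lit 3), (nat_lit 4095), (nat_lit 0), row, jrow, drow, RR⟩
theorem params : cert.paramsOK = true := by decide +kernel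
theorem rules : rulesOK rels subs iv cert.L cert.LL cert.RR = true := by decide +kernel
theorem blk0 : cert.alive (nat_lit 0) (nat_lit 1) (nat_lit 3) = 0 := by decide +kernel
theorem up0 : cert.Upto 0 := PCert.upto_zero _
theorem up1 : cert.Upto 3 := up0.alive params blk0 (by decide)

theorem covers {G : Type*} [Group G] {g : ℕ → G} {H : Subgroup G}
    (h : Sat g H 10 iv rels subs) : Covers g 10 H 3 :=
  PCert.covers (p := cert) params rules (by decide +kernel) up1 h

end CL.E32.Ap.Eabcdx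

namespace CL.E32.Ap.Eabcdxt
open CL.CE CL.K

noncomputable def tT0 : ℕ := nat_lit 0x61a85fc6fb6ba6796375751240e30a206102
noncomputable def tJ0 : ℕ := nat_lit 0x555555466666
noncomputable def tD0 : ℕ := nat_lit 0x105000
noncomputable def tT : Tr := (.leaf tT0)
noncomputable def tJ : Tr := (.leaf tJ0)
noncomputable def tD : Tr := (.leaf tD0)

def rels : List (List ℕ) := [[0,1],
  [1,0],
  [2,3],
  [3,2],
  [4,5],
  [5,4],
  [6,7],
  [7,6],
  [8,9],
  [9,8],
  [10,11],
  [11,10],
  [0,0,0,0],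
  [0,0,3,3],
  [2,0,3,0],
  [0,0,5,5],
  [0,0,7,7],
  [6,4,7,4],
  [0,4,1,5],
  [0,6,1,7],
  [2,4,3,5],
  [2,6,3,7],
  [8,8,8],
  [8,0,9,3],
  [8,2,9,3,1],
  [8,4,9,7],
  [8,6,9,7,5],
  [10,8,11,8],
  [10,0,11,2],
  [10,2,11,0],
  [10,4,11,6],
  [10,6,11,4],
  [10,10]]
def subs : List (List ℕ) := [[0],
  [1],
  [2],
  [3],
  [4],
  [5],
  [6],
  [7],
  [8],
  [9]]
def iv (a : ℕ) : ℕ := [1,0,3,2,5,4,7,6,9,8,11,10,12].getD a 0
noncomputable def RR0 : List Rule := [.bwd [11,2,10] 28 1 0,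
  .sub [] [] 0 0]
noncomputable def RR1 : List Rule := [.bwd [0] 1 0 0]
noncomputable def RR2 : List Rule := [.bwd [11,0,10] 29 1 0,
  .sub [] [] 2 0]
noncomputable def RR3 : List Rule := [.bwd [2] 3 0 0]
noncomputable def RR4 : List Rule := [.bwd [11,6,10] 30 1 0,
  .sub [] [] 4 0]
noncomputable def RR5 : List Rule := [.bwd [4] 5 0 0]
noncomputable def RR6 : List Rule := [.bwd [11,4,10] 31 1 0,
  .sub [] [] 6 0]
noncomputable def RR7 : List Rule := [.bwd [6] 7 0 0]
noncomputable def RR8 : List Rule := [.bwd [11,8,10] 27 1 0,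
  .sub [] [] 8 0]
noncomputable def RR9 : List Rule := [.bwd [8] 9 0 0]
noncomputable def RR10 : List Rule := [.bwd [10] 32 1 0]
noncomputable def RR11 : List Rule := [.bwd [10] 11 0 0]
noncomputable def RR : List (List Rule) := [RR0, RR1, RR2, RR3, RR4, RR5, RR6, RR7, RR8, RR9, RR10, RR11]
noncomputable def rowp (j : ℕ) : ℕ := piece tT (nat_lit 3) (nat_lit 7) (nat_lit 2304) (Nat.pred (Nat.shiftLeft 1 (nat_lit 2304))) j
noncomputable def row (u : ℕ) : ℕ := rowOf rowp (nat_lit 5) (nat_lit 31) (nat_lit 72) u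
noncomputable def jrowp (j : ℕ) : ℕ := piece tJ (nat_lit 3) (nat_lit 7) (nat_lit 3072) (Nat.pred (Nat.shiftLeft 1 (nat_lit 3072))) j
noncomputable def jrow (u : ℕ) : ℕ := rowOf jrowp (nat_lit 7) (nat_lit 127) (nat_lit 24) u
noncomputable def drowp (j : ℕ) : ℕ := piece tD (nat_lit 3) (nat_lit 7) (nat_lit 2816) (Nat.pred (Nat.shiftLeft 1 (nat_lit 2816))) j
noncomputable def drow (u : ℕ) : ℕ := rowOf drowp (nat_lit 8) (nat_lit 255) (nat_lit 11) u
noncomputable def cert : PCert := ⟨(nat_lit 12), (nat_lit 12), (nat_lit 1), (nat_lit 6), (nat_lit 63), (nat_lit 62), (nat_lit 2), (nat_lit 1), (nat_lit 1), (nat_lit 2), (nat_lit 3), (nat_lit 2), (nat_lit 3), (nat_lit 2047), (nat_lit 0), row, jrow, drow, RR⟩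
theorem params : cert.paramsOK = true := by decide +kernel
theorem rules : rulesOK rels subs iv cert.L cert.LL cert.RR = true := by decide +kernel
theorem blk0 : cert.alive (nat_lit 0) (nat_lit 1) (nat_lit 2) = 0 := by decide +kernel
theorem up0 : cert.Upto 0 := PCert.upto_zero _
theorem up1 : cert.Upto 2 := up0.alive params blk0 (by decide)

theorem covers {G : Type*} [Group G] {g : ℕ → G} {H : Subgroup G}
    (h : Sat g H 12 iv rels subs) : Covers g 12 H 2 :=
  PCert.covers (p := cert) params rules (by decide +kernel) up1 h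

end CL.E32.Ap.Eabcdxt

namespace CL.E32.Ap
open CL.CE CL.K CL.Reg

def iv (a : ℕ) : ℕ := [1,0,3,2,5,4,7,6,9,8,11,10].getD a a
def Rels : List (List ℕ) := [[0,1], [1,0], [2,3], [3,2], [4,5], [5,4], [6,7], [7,6], [8,9], [9,8], [10,11], [11,10], [0,0,0,0], [0,0,3,3], [2,0,3,0], [0,0,5,5], [0,0,7,7], [6,4,7,4], [0,4,1,5], [0,6,1,7], [2,4,3,5], [2,6,3,7], [8,8,8], [8,0,9,3], [8,2,9,3,1], [8,4,9,7], [8,6,9,7,5], [10,8,11,8], [10,0,11,2], [10,2,11,0], [10,4,11,6], [10,6,11,4], [10,10]]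

theorem idx_a {G : Type*} [Group G] {g : ℕ → G} (h : Pres g iv Rels) :
    IdxLe (gen g []) (gen g [[0], [1]]) 4 :=
  h.idxLe _ _ CL.E32.Ap.Ea.covers (by decide +kernel)

theorem le_a {G : Type*} [Group G] {g : ℕ → G} (h : Pres g iv Rels) :
    CardLe (gen g [[0], [1]]) 4 :=
  (idx_a h).cardLe (cardLe_nil g) (by norm_num)

theorem idx_ab {G : Type*} [Group G] {g : ℕ → G} (h : Pres g iv Rels) :
    IdxLe (gen g [[0], [1]]) (gen g [[0], [1], [2], [3]]) 2 :=
  h.idxLe _ _ CL.E32.Ap.Eab.covers (by decide +kernel)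

theorem le_ab {G : Type*} [Group G] {g : ℕ → G} (h : Pres g iv Rels) :
    CardLe (gen g [[0], [1], [2], [3]]) 8 :=
  (idx_ab h).cardLe (le_a h) (by norm_num)

theorem idx_abc {G : Type*} [Group G] {g : ℕ → G} (h : Pres g iv Rels) :
    IdxLe (gen g [[0], [1], [2], [3]]) (gen g [[0], [1], [2], [3], [4], [5]]) 2 :=
  h.idxLe _ _ CL.E32.Ap.Eabc.covers (by decide +kernel)

theorem le_abc {G : Type*} [Group G] {g : ℕ → G} (h : Pres g iv Rels) :
    CardLe (gen g [[0], [1], [2], [3], [4], [5]]) 16 :=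
  (idx_abc h).cardLe (le_ab h) (by norm_num)

theorem idx_abcd {G : Type*} [Group G] {g : ℕ → G} (h : Pres g iv Rels) :
    IdxLe (gen g [[0], [1], [2], [3], [4], [5]]) (gen g [[0], [1], [2], [3], [4], [5], [6], [7]]) 2 :=
  h.idxLe _ _ CL.E32.Ap.Eabcd.covers (by decide +kernel)

theorem le_abcd {G : Type*} [Group G] {g : ℕ → G} (h : Pres g iv Rels) :
    CardLe (gen g [[0], [1], [2], [3], [4], [5], [6], [7]]) 32 :=
  (idx_abcd h).cardLe (le_abc h) (by norm_num)

theorem idx_abcdx {G : Type*} [Group G] {g : ℕ → G} (h : Pres g iv Rels) :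
    IdxLe (gen g [[0], [1], [2], [3], [4], [5], [6], [7]]) (gen g [[0], [1], [2], [3], [4], [5], [6], [7], [8], [9]]) 3 :=
  h.idxLe _ _ CL.E32.Ap.Eabcdx.covers (by decide +kernel)

theorem le_abcdx {G : Type*} [Group G] {g : ℕ → G} (h : Pres g iv Rels) :
    CardLe (gen g [[0], [1], [2], [3], [4], [5], [6], [7], [8], [9]]) 96 :=
  (idx_abcdx h).cardLe (le_abcd h) (by norm_num)

theorem idx_abcdxt {G : Type*} [Group G] {g : ℕ → G} (h : Pres g iv Rels) :
    IdxLe (gen g [[0], [1], [2], [3], [4], [5], [6], [7], [8], [9]]) (gen g [[0], [1], [2], [3], [4], [5], [6], [7], [8], [9], [10], [11]]) 2 :=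
  h.idxLe _ _ CL.E32.Ap.Eabcdxt.covers (by decide +kernel)

theorem le_abcdxt {G : Type*} [Group G] {g : ℕ → G} (h : Pres g iv Rels) :
    CardLe (gen g [[0], [1], [2], [3], [4], [5], [6], [7], [8], [9], [10], [11]]) 192 :=
  (idx_abcdxt h).cardLe (le_abcdx h) (by norm_num)

noncomputable def H_T : ℕ := nat_lit 0x9191bbbd95949293a5a496979090babc94959392a4a597968989bfbbb5b48a8ba3a28c8d8888bebab4b58b8aa2a38d8c8383bdbf8485b6b78687aeaf8282bcbe8584b7b68786afae7e7e94b78a8bb4b59f9d7f817d7d95b68b8ab5b49d9f817f7b7bb994b2b3bbba7c80aaac7a7ab895b3b2babb807cacaa767692b3bcbdb9b89b997779757593b2bdbcb8b9999b79777373b592b7b684857478a6a87272b493b6b785847874a8a66c6ca4afa9a76d6f8c8da2a36b6ba5aea7a96f6d8d8ca3a26969b1a46a6eaaaca0a1bbba6868b0a56e6aacaaa1a0babb666667ac6d6fa7a97f819d9f6565ad67a6a8afae9c9eb7b6636364aa6f6da9a7817f9f9d6262ab64a8a6aeaf9e9cb6b7606061a8b0b1adab7779999b5f5fa961acaa6a6e989ab3b25d5d5ea6b1b0abad79779b995c5ca75eaaac6e6a9a98b2b35b5baeb067645e61bebf70715a5aa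fb16467615ebfbe7170565696a19b995759bcbdb1b0555597a0999b5957bdbcb0b15353a39654589c9eafae86875252a29758549e9caeaf87865050519e5759999bb8b9adab4f4f9f51989aa1a0acaa7c804d4d4e9c59579b99b9b8abad4c4c9d4e9a98a0a1aaac807c4a4a4b9aa2a39f9db4b5a9a749499b4b9e9c5458a8a6747847474898a3a29d9fb5b4a7a9464699489c9e5854a6a878744545a0a2514e484b7071bfbe4444a1a34e514b487170bebf4141b6b8bebf424367644e514040b7b9bfbe43426467514e3f3fb2b44243bfbe615e484b3e3eb3b54342bebf5e614b48bfbf89833f3e404145445a5bbebe88823e3f414044455b5a3c3c3d8e817f8d8c6f6d8b8a3b3b8f3d87867874858458543939708779773a8fb1b0bdbc3838718677798f3ab0b1bcbd37374285b9b8bdbc59573a8f36364384b8b9bcbd57598f3abdbd83913736757639385556bcbc8290363776753839565534348d70358e7c80bbbaa1a033338c718e35807cbabba0a132328b42bbbab3b2358e6a6e31318a43babbb2b38e356e6abbbb91897b7a323169683433baba90887a7b3132686933342f2f30803a8f7779adabb9b82e2e813074788786b7b69e9c2c2c2d7c8f3a7977abadb8b9b9b97b40767537362f2c4d50b8b87a41757636372c2f504d2b2b7f2d787486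87b6b79c9eb7b7407e8283737265622e2bb6b6417d8382727362652b2e29292a788c8d817fa9a7b5b42828792a807c358eb3b29a98262627748d8c7f81a7a9b4b5b5b5733e7d7e89882926474ab4b4723f7e7d888926294a47252577277c808e35b2b3989ab3b33e7632317a7b5f5c2825b2b23f7531327b7a5c5f25282424868c302d272a9796a5a42323878d2d302a279697a4a52121226eadabb1b03a8f575920206f22afaea8a6545885841e1e1f6aabadb0b18f3a5957b1b1695a211e5d6056553938b0b0685b1e21605d555638391d1d6d1faeafa6a858548485afaf5a6c6562201d82835352aeae5b6b62651d20838252531c1cacada4a51f2294952d30adad651c605d211e504d2f2cacac1c6668695f5c7a7b4f4c1b1baaaba5a4221f9594302dabab621b5d601e214d502c2faaaa1b6369685c5f7b7a4c4f1a1aa8a91f22a5a49293272aa9a95f1a63666c6b4a472926a8a81a60201d6265727349461919a6a7221fa4a593922a27a7a75c1966636b6c474a2629a6a6195d1d20656273724649a5a56b681a191b1c24239190a4a46c69191a1c1b23249091171718589f9da3a28a8b6f6d16165918a1a09a986e6a358e141415549d9fa2a38b8a6d6fa3a353441714474a6b6c8988a2a2524514174a476c6b888913135715a0a1989a6a6e8e3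5a1a144564f4c161334336869a0a045554c4f13163334696812129e9f969715182d3095949f9f4f124a47171463667e7d9e9e1250525349462e2b626511119c9d97961815302d94959d9d4c11474a141766637d7e9c9c114d535246492b2e656210109a9b15189796272a93929b9b49104d5056555d6076759a9a104a16134c4f28255c5f0f0f9899181596972a2792939999460f504d5556605d757698980f4713164f4c25285f5c97975552100f111290912423969656530f101211919023240e0e848a93929594221f15180d0d858b929394951f22181595957d7a0e0d919012111b1c94947e7b0d0e909111121c1b9393757290910e0d100f191a9292767391900d0e0f101a190c0c8e8f2a27302d1815221f8f8f3b0c38392c2f36371e218e8e0c3c25283334131631320a0a0b357f818c8d6d6f8a8b8d8d34233c0a262988896b6c8c8c33240a3c292689886c6b8b8b320d88897d7e3c0a14178a8a310e89887e7d0a3c171409093a0b8687747884855458878723392e2b3b0952538283868624382b2e093b5352838285850d3772738283201d3b0984840e36737283821d20093b0808808170710b3d514e676481812e0829263c0a7d7e63668080082f333428254c4f7a7b07077c7f71703d0b4e5164677f7f2b0726290a3c7e7d66637c7c072c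343325284f4c7b7a060678790b3d71704b48615e797928062c2f393875765d60787806293b092b2e46497273050574773d0b7071484b5e61777725052f2c38397675605d74740526093b2e2b4946737271713833060507085a5b444570703934050608075b5a454404046e6f615e676442430b3d6f6f20046b6c636617143c0a6e6e04215c5f68693132161303036a6d5e61646743423d0b6d6d1d036c6b666314170a3c6a6a031e5f5c6968323113166767666504035b5a080741406464636203045a5b070840416161605f5a5b040306053f3e5e5e5d5c5b5a030405063e3f020258594b48514e0b3d43425959160255564d501e21373658580217464952533b091d2001015457484b4e513d0b4243575713015655504d211e36375454011449465352093b201d5151504f02014544404108074e4e4d4c01024445414007084b4b4a49444502013e3f060548484746454401023f3e05064343363140413e3f020103044242373241403f3e010204033d3d3c3b07080506030401020000353a272a2d3015181f223a3a090039382f2c3736211e3535000a282534331613323130302f2e0c0024231b1c11122d2d2c2b000c23241c1b12112a2a292823240c00191a0f10272726252423000c1a19100f222221201b1c191a0c000e0d1f1f1e1d1c1b1a19000c0d0e1818171611120f100d0e0c00151514131211100f0e0d000c0b0b0a090807060504030201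
noncomputable def H_W : ℕ := nat_lit 0xb8531b75310b83a0b73a0b6190b5190b4a70b3a70b2970b1970b4a50b3a50b2950b1950b8a30b7a30b6930b5930ba830b9830ba730b9730ba630b9630ba530b9530b8530b7530b8a10b7a10b6910b5910ba810b9810ba710b9710ba610b9610ba510b9510b8510b7510b8310b7310b6310b53108531075310ba110b91100b8a00b7a00b4a00b3a0083a0073a00b6900b5900b2900b19006190051900ba800b9800ba7004a7003a700b97002970019700ba600b9600ba5004a5003a500b95002950019500b8500b7500ba400b9400ba3008a3007a300b93006930059300b8300a830098300b7300a730097300b6300a630096300b5300a5300953008530075300ba200b9200ba1008a1007a100b91006910059100b8100a810098100b7100a710097100b6100a610096100b5100a5100951008510075100b4100b310083100731006310053100b1100a1100911000ba0008a0007a0004a0003a000b900069000590002900019000b8000a800098000b7000a700097000b6000a600096000b5000a5000950008500075000b4000a400094000b3000a30009300083000730006300053000b2000a200092000b1000a100091000810007100061000510004100031000110000b0000a00009000080000700006000050000400003000020000100000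
noncomputable def H_I : ℕ := nat_lit 0xbfbe9b99acaa9f9dafaea3a2a8a6a9a7b7b6adbbabbab1b3b0b29796b5b49e9cb9a1b8a0bd9abc98a5a49392959491908f8e797759576562807c6e6a4a4781877f5f5c8656558d788c696874504d71706f856d4f4c8476754b498948468851537e4e527d5b5a8b588a7b7a54605d61736c5e726b6783666482634544434241403f3e3d3b3c3a2b2e1d2035262914172a253827283930332c2d342f23241813361516371c1b1a1922311e1f32211211100f0d0e0c0b090a070805060304010200
noncomputable def H_dat : Dat := ⟨nat_lit 192, nat_lit 12, nat_lit 5, [1,0,3,2,5,4,7,6,9,8,11,10], tb (nat_lit 12) (nat_lit 8) (nat_lit 255) H_T,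
  fld (nat_lit 20) (nat_lit 1048575) H_W, fld (nat_lit 8) (nat_lit 255) H_I⟩
theorem H_chk : H_dat.Chk Rels :=
  Dat.chk_of (a := 12) (b := 16) (by decide +kernel) rfl (by decide +kernel)
theorem H_good : H_dat.Good Rels := H_chk.good fun _ hg => le_abcdxt hg
/-- the group of the table -/
abbrev H : Type := RG H_dat H_good
theorem H_hom {G : Type*} [Group G] {g : ℕ → G} (hg : Pres g iv Rels) :
    ∃ φ : H →* G, φ.range = gen g [[0], [1], [2], [3], [4], [5], [6], [7], [8], [9], [10], [11]] ∧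
      ∀ w : List ℕ, ltAll 12 w = true → φ (RG.wd H_good w) = ev g w :=
  RG.exists_hom hg fun _ hg' => le_abcdxt hg'

noncomputable def a : H := RG.mk' H_good (nat_lit 1)
noncomputable def b : H := RG.mk' H_good (nat_lit 3)
noncomputable def c : H := RG.mk' H_good (nat_lit 5)
noncomputable def d : H := RG.mk' H_good (nat_lit 7)
noncomputable def x : H := RG.mk' H_good (nat_lit 9)
noncomputable def s : H := RG.mk' H_good (nat_lit 12)
noncomputable def t : H := RG.mk' H_good (nat_lit 11)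
theorem wd_a : RG.wd H_good [0] = a := by decide +kernel
theorem wd_b : RG.wd H_good [2] = b := by decide +kernel
theorem wd_c : RG.wd H_good [4] = c := by decide +kernel
theorem wd_d : RG.wd H_good [6] = d := by decide +kernel
theorem wd_x : RG.wd H_good [8] = x := by decide +kernel
theorem wd_t : RG.wd H_good [10] = t := by decide +kernel

end CL.E32.Ap
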