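/- A group 2^(1+4).S3 as a table (generated). -/
import Cfsg.Agent.SPOR.A10.Reg
set_option autoImplicit false
set_option maxRecDepth 100000

namespace CL.E32.Bm.Ea
open CL.CE CL.K

noncomputable def tT0 : ℕ := nat_lit 0x75a5d0223385
noncomputable def tJ0 : ℕ := nat_lit 0x9150
noncomputable def tD0 : ℕ := nat_lit 0x700a004800000
noncomputable def tT : Tr := (.leaf tT0)
noncomputable def tJ : Tr := (.leaf tJ0)
noncomputable def tD : Tr := (.leaf tD0)

def rels : List (List ℕ) := [[0,1],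
  [1,0],
  [0,0,0,0]]
def subs : List (List ℕ) := []
def iv (a : ℕ) : ℕ := [1,0,2].getD a 0
noncomputable def RR0 : List Rule := [.bwd [1] 0 0 0]
noncomputable def RR1 : List Rule := [.bwd [0] 1 0 0,
  .bwd [1,1,1] 2 1 1]
noncomputable def RR : List (List Rule) := [RR0, RR1]
noncomputable def rowp (j : ℕ) : ℕ := piece tT (nat_lit 3) (nat_lit 7) (nat_lit 3072) (Nat.pred (Nat.shiftLeft 1 (nat_lit 3072))) j
noncomputable def row (u : ℕ) : ℕ := rowOf rowp (nat_lit 8) (nat_lit 255) (nat_lit 12) u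
noncomputable def jrowp (j : ℕ) : ℕ := piece tJ (nat_lit 3) (nat_lit 7) (nat_lit 4096) (Nat.pred (Nat.shiftLeft 1 (nat_lit 4096))) j
noncomputable def jrow (u : ℕ) : ℕ := rowOf jrowp (nat_lit 10) (nat_lit 1023) (nat_lit 4) u
noncomputable def drowp (j : ℕ) : ℕ := piece tD (nat_lit 3) (nat_lit 7) (nat_lit 3328) (Nat.pred (Nat.shiftLeft 1 (nat_lit 3328))) j
noncomputable def drow (u : ℕ) : ℕ := rowOf drowp (nat_lit 8) (nat_lit 255) (nat_lit 13) u
noncomputable def cert : PCert := ⟨(nat_lit 2), (nat_lit 2), (nat_lit 3), (nat_lit 6), (nat_lit 63), (nat_lit 62), (nat_lit 4), (nat_lit 3), (nat_lit 3), (nat_lit 2), (nat_lit 3), (nat_lit 2), (nat_lit 3), (nat_lit 8191), (nat_lit 0), row, jrow, drow, RR⟩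
theorem params : cert.paramsOK = true := by decide +kernel
theorem rules : rulesOK rels subs iv cert.L cert.LL cert.RR = true := by decide +kernel
theorem blk0 : cert.alive (nat_lit 0) (nat_lit 1) (nat_lit 4) = 0 := by decide +kernel
theorem up0 : cert.Upto 0 := PCert.upto_zero _
theorem up1 : cert.Upto 4 := up0.alive params blk0 (by decide)

theorem covers {G : Type*} [Group G] {g : ℕ → G} {H : Subgroup G}
    (h : Sat g H 2 iv rels subs) : Covers g 2 H 4 :=
  PCert.covers (p := cert) params rules (by decide +kernel) up1 h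

end CL.E32.Bm.Ea

namespace CL.E32.Bm.Eab
open CL.CE CL.K

noncomputable def tT0 : ℕ := nat_lit 0x5222f3b482
noncomputable def tJ0 : ℕ := nat_lit 0x5615
noncomputable def tD0 : ℕ := nat_lit 0x101800
noncomputable def tT : Tr := (.leaf tT0)
noncomputable def tJ : Tr := (.leaf tJ0)
noncomputable def tD : Tr := (.leaf tD0)

def rels : List (List ℕ) := [[0,1],
  [1,0],
  [2,3],
  [3,2],
  [0,0,0,0],
  [0,0,3,3],
  [2,0,3,0]]
def subs : List (List ℕ) := [[0],
  [1]]
def iv (a : ℕ) : ℕ := [1,0,3,2,4].getD a 0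
noncomputable def RR0 : List Rule := [.sub [] [] 0 0,
  .bwd [2,0,3] 6 3 0]
noncomputable def RR1 : List Rule := [.bwd [0] 1 0 0]
noncomputable def RR2 : List Rule := [.bwd [3] 2 0 0]
noncomputable def RR3 : List Rule := [.bwd [0,0,3] 5 3 0]
noncomputable def RR : List (List Rule) := [RR0, RR1, RR2, RR3]
noncomputable def rowp (j : ℕ) : ℕ := piece tT (nat_lit 3) (nat_lit 7) (nat_lit 2560) (Nat.pred (Nat.shiftLeft 1 (nat_lit 2560))) j
noncomputable def row (u : ℕ) : ℕ := rowOf rowp (nat_lit 7) (nat_lit 127) (nat_lit 20) u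
noncomputable def jrowp (j : ℕ) : ℕ := piece tJ (nat_lit 3) (nat_lit 7) (nat_lit 4096) (Nat.pred (Nat.shiftLeft 1 (nat_lit 4096))) j
noncomputable def jrow (u : ℕ) : ℕ := rowOf jrowp (nat_lit 9) (nat_lit 511) (nat_lit 8) u
noncomputable def drowp (j : ℕ) : ℕ := piece tD (nat_lit 3) (nat_lit 7) (nat_lit 2816) (Nat.pred (Nat.shiftLeft 1 (nat_lit 2816))) j
noncomputable def drow (u : ℕ) : ℕ := rowOf drowp (nat_lit 8) (nat_lit 255) (nat_lit 11) u
noncomputable def cert : PCert := ⟨(nat_lit 4), (nat_lit 4), (nat_lit 1), (nat_lit 5), (nat_lit 31), (nat_lit 30), (nat_lit 2), (nat_lit 1), (nat_lit 1), (nat_lit 2), (nat_lit 3), (nat_lit 2), (nat_lit 3), (nat_lit 2047), (nat_lit 0), row, jrow, drow, RR⟩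
theorem params : cert.paramsOK = true := by decide +kernel
theorem rules : rulesOK rels subs iv cert.L cert.LL cert.RR = true := by decide +kernel
theorem blk0 : cert.alive (nat_lit 0) (nat_lit 1) (nat_lit 2) = 0 := by decide +kernel
theorem up0 : cert.Upto 0 := PCert.upto_zero _
theorem up1 : cert.Upto 2 := up0.alive params blk0 (by decide)

theorem covers {G : Type*} [Group G] {g : ℕ → G} {H : Subgroup G}
    (h : Sat g H 4 iv rels subs) : Covers g 4 H 2 :=
  PCert.covers (p := cert) params rules (by decide +kernel) up1 h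

end CL.E32.Bm.Eab

namespace CL.E32.Bm.Eabc
open CL.CE CL.K

noncomputable def tT0 : ℕ := nat_lit 0x73337acd7141882
noncomputable def tJ0 : ℕ := nat_lit 0x566155
noncomputable def tD0 : ℕ := nat_lit 0x102800
noncomputable def tT : Tr := (.leaf tT0)
noncomputable def tJ : Tr := (.leaf tJ0)
noncomputable def tD : Tr := (.leaf tD0)

def rels : List (List ℕ) := [[0,1],
  [1,0],
  [2,3],
  [3,2],
  [4,5],
  [5,4],
  [0,0,0,0],
  [0,0,3,3],
  [2,0,3,0],
  [0,0,5,5],
  [0,4,1,5],
  [2,4,3,5]]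
def subs : List (List ℕ) := [[0],
  [1],
  [2],
  [3]]
def iv (a : ℕ) : ℕ := [1,0,3,2,5,4,6].getD a 0
noncomputable def RR0 : List Rule := [.sub [] [] 0 0,
  .bwd [4,1,5] 10 0 0]
noncomputable def RR1 : List Rule := [.bwd [0] 1 0 0]
noncomputable def RR2 : List Rule := [.sub [] [] 2 0,
  .bwd [4,3,5] 11 0 0]
noncomputable def RR3 : List Rule := [.bwd [2] 3 0 0]
noncomputable def RR4 : List Rule := [.bwd [5] 4 0 0]
noncomputable def RR5 : List Rule := [.bwd [0,0,5] 9 3 0]
noncomputable def RR : List (List Rule) := [RR0, RR1, RR2, RR3, RR4, RR5]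
noncomputable def rowp (j : ℕ) : ℕ := piece tT (nat_lit 3) (nat_lit 7) (nat_lit 3840) (Nat.pred (Nat.shiftLeft 1 (nat_lit 3840))) j
noncomputable def row (u : ℕ) : ℕ := rowOf rowp (nat_lit 7) (nat_lit 127) (nat_lit 30) u
noncomputable def jrowp (j : ℕ) : ℕ := piece tJ (nat_lit 3) (nat_lit 7) (nat_lit 3072) (Nat.pred (Nat.shiftLeft 1 (nat_lit 3072))) j
noncomputable def jrow (u : ℕ) : ℕ := rowOf jrowp (nat_lit 8) (nat_lit 255) (nat_lit 12) u
noncomputable def drowp (j : ℕ) : ℕ := piece tD (nat_lit 3) (nat_lit 7) (nat_lit 2816) (Nat.pred (Nat.shiftLeft 1 (nat_lit 2816))) j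
noncomputable def drow (u : ℕ) : ℕ := rowOf drowp (nat_lit 8) (nat_lit 255) (nat_lit 11) u
noncomputable def cert : PCert := ⟨(nat_lit 6), (nat_lit 6), (nat_lit 1), (nat_lit 5), (nat_lit 31), (nat_lit 30), (nat_lit 2), (nat_lit 1), (nat_lit 1), (nat_lit 2), (nat_lit 3), (nat_lit 2), (nat_lit 3), (nat_lit 2047), (nat_lit 0), row, jrow, drow, RR⟩
theorem params : cert.paramsOK = true := by decide +kernel
theorem rules : rulesOK rels subs iv cert.L cert.LL cert.RR = true := by decide +kernel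
theorem blk0 : cert.alive (nat_lit 0) (nat_lit 1) (nat_lit 2) = 0 := by decide +kernel
theorem up0 : cert.Upto 0 := PCert.upto_zero _
theorem up1 : cert.Upto 2 := up0.alive params blk0 (by decide)

theorem covers {G : Type*} [Group G] {g : ℕ → G} {H : Subgroup G}
    (h : Sat g H 6 iv rels subs) : Covers g 6 H 2 :=
  PCert.covers (p := cert) params rules (by decide +kernel) up1 h

end CL.E32.Bm.Eabc

namespace CL.E32.Bm.Eabcd
open CL.CE CL.K

noncomputable def tT0 : ℕ := nat_lit 0x49065785f75b3d530a206102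
noncomputable def tJ0 : ℕ := nat_lit 0x56661555
noncomputable def tD0 : ℕ := nat_lit 0x103800
noncomputable def tT : Tr := (.leaf tT0)
noncomputable def tJ : Tr := (.leaf tJ0)
noncomputable def tD : Tr := (.leaf tD0)

def rels : List (List ℕ) := [[0,1],
  [1,0],
  [2,3],
  [3,2],
  [4,5],
  [5,4],
  [6,7],
  [7,6],
  [0,0,0,0],
  [0,0,3,3],
  [2,0,3,0],
  [0,0,5,5],
  [0,0,7,7],
  [6,4,7,4],
  [0,4,1,5],
  [0,6,1,7],
  [2,4,3,5],
  [2,6,3,7]]
def subs : List (List ℕ) := [[0],
  [1],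
  [2],
  [3],
  [4],
  [5]]
def iv (a : ℕ) : ℕ := [1,0,3,2,5,4,7,6,8].getD a 0
noncomputable def RR0 : List Rule := [.sub [] [] 0 0,
  .bwd [6,1,7] 15 0 0]
noncomputable def RR1 : List Rule := [.bwd [0] 1 0 0]
noncomputable def RR2 : List Rule := [.sub [] [] 2 0,
  .bwd [6,3,7] 17 0 0]
noncomputable def RR3 : List Rule := [.bwd [2] 3 0 0]
noncomputable def RR4 : List Rule := [.sub [] [] 4 0,
  .bwd [6,4,7] 13 3 0]
noncomputable def RR5 : List Rule := [.bwd [4] 5 0 0]
noncomputable def RR6 : List Rule := [.bwd [7] 6 0 0]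
noncomputable def RR7 : List Rule := [.bwd [0,0,7] 12 3 0]
noncomputable def RR : List (List Rule) := [RR0, RR1, RR2, RR3, RR4, RR5, RR6, RR7]
noncomputable def rowp (j : ℕ) : ℕ := piece tT (nat_lit 3) (nat_lit 7) (nat_lit 3072) (Nat.pred (Nat.shiftLeft 1 (nat_lit 3072))) j
noncomputable def row (u : ℕ) : ℕ := rowOf rowp (nat_lit 6) (nat_lit 63) (nat_lit 48) u
noncomputable def jrowp (j : ℕ) : ℕ := piece tJ (nat_lit 3) (nat_lit 7) (nat_lit 4096) (Nat.pred (Nat.shiftLeft 1 (nat_lit 4096))) j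
noncomputable def jrow (u : ℕ) : ℕ := rowOf jrowp (nat_lit 8) (nat_lit 255) (nat_lit 16) u
noncomputable def drowp (j : ℕ) : ℕ := piece tD (nat_lit 3) (nat_lit 7) (nat_lit 2816) (Nat.pred (Nat.shiftLeft 1 (nat_lit 2816))) j
noncomputable def drow (u : ℕ) : ℕ := rowOf drowp (nat_lit 8) (nat_lit 255) (nat_lit 11) u
noncomputable def cert : PCert := ⟨(nat_lit 8), (nat_lit 8), (nat_lit 1), (nat_lit 6), (nat_lit 63), (nat_lit 62), (nat_lit 2), (nat_lit 1), (nat_lit 1), (nat_lit 2), (nat_lit 3), (nat_lit 2), (nat_lit 3), (nat_lit 2047), (nat_lit 0), row, jrow, drow, RR⟩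
theorem params : cert.paramsOK = true := by decide +kernel
theorem rules : rulesOK rels subs iv cert.L cert.LL cert.RR = true := by decide +kernel
theorem blk0 : cert.alive (nat_lit 0) (nat_lit 1) (nat_lit 2) = 0 := by decide +kernel
theorem up0 : cert.Upto 0 := PCert.upto_zero _
theorem up1 : cert.Upto 2 := up0.alive params blk0 (by decide)

theorem covers {G : Type*} [Group G] {g : ℕ → G} {H : Subgroup G}
    (h : Sat g H 8 iv rels subs) : Covers g 8 H 2 :=
  PCert.covers (p := cert) params rules (by decide +kernel) up1 h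

end CL.E32.Bm.Eabcd

namespace CL.E32.Bm.Eabcdx
open CL.CE CL.K

noncomputable def tT0 : ℕ := nat_lit 0x28d4f5db566e5bb15e513a4c572d60bd62b6d254070c142030404
noncomputable def tJ0 : ℕ := nat_lit 0x555554555546666
noncomputable def tD0 : ℕ := nat_lit 0x908408000
noncomputable def tT : Tr := (.leaf tT0)
noncomputable def tJ : Tr := (.leaf tJ0)
noncomputable def tD : Tr := (.leaf tD0)

def rels : List (List ℕ) := [[0,1],
  [1,0],
  [2,3],
  [3,2],
  [4,5],
  [5,4],
  [6,7],
  [7,6],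
  [8,9],
  [9,8],
  [0,0,0,0],
  [0,0,3,3],
  [2,0,3,0],
  [0,0,5,5],
  [0,0,7,7],
  [6,4,7,4],
  [0,4,1,5],
  [0,6,1,7],
  [2,4,3,5],
  [2,6,3,7],
  [8,8,8],
  [8,0,9,3],
  [8,2,9,3,1],
  [8,4,9,7],
  [8,6,9,7,5]]
def subs : List (List ℕ) := [[0],
  [1],
  [2],
  [3],
  [4],
  [5],
  [6],
  [7]]
def iv (a : ℕ) : ℕ := [1,0,3,2,5,4,7,6,9,8,10].getD a 0
noncomputable def RR0 : List Rule := [.bwd [9,3,8] 21 1 0,
  .sub [] [] 0 0]
noncomputable def RR1 : List Rule := [.bwd [0] 1 0 0]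
noncomputable def RR2 : List Rule := [.bwd [9,3,1,8] 22 1 0,
  .sub [] [] 2 0]
noncomputable def RR3 : List Rule := [.bwd [2] 3 0 0]
noncomputable def RR4 : List Rule := [.bwd [9,7,8] 23 1 0,
  .sub [] [] 4 0]
noncomputable def RR5 : List Rule := [.bwd [4] 5 0 0]
noncomputable def RR6 : List Rule := [.bwd [9,7,5,8] 24 1 0,
  .sub [] [] 6 0]
noncomputable def RR7 : List Rule := [.bwd [6] 7 0 0]
noncomputable def RR8 : List Rule := [.bwd [8,8] 20 1 0]
noncomputable def RR9 : List Rule := [.bwd [8] 9 0 0]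
noncomputable def RR : List (List Rule) := [RR0, RR1, RR2, RR3, RR4, RR5, RR6, RR7, RR8, RR9]
noncomputable def rowp (j : ℕ) : ℕ := piece tT (nat_lit 3) (nat_lit 7) (nat_lit 2240) (Nat.pred (Nat.shiftLeft 1 (nat_lit 2240))) j
noncomputable def row (u : ℕ) : ℕ := rowOf rowp (nat_lit 5) (nat_lit 31) (nat_lit 70) u
noncomputable def jrowp (j : ℕ) : ℕ := piece tJ (nat_lit 3) (nat_lit 7) (nat_lit 2560) (Nat.pred (Nat.shiftLeft 1 (nat_lit 2560))) j
noncomputable def jrow (u : ℕ) : ℕ := rowOf jrowp (nat_lit 7) (nat_lit 127) (nat_lit 20) u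
noncomputable def drowp (j : ℕ) : ℕ := piece tD (nat_lit 3) (nat_lit 7) (nat_lit 3072) (Nat.pred (Nat.shiftLeft 1 (nat_lit 3072))) j
noncomputable def drow (u : ℕ) : ℕ := rowOf drowp (nat_lit 8) (nat_lit 255) (nat_lit 12) u
noncomputable def cert : PCert := ⟨(nat_lit 10), (nat_lit 10), (nat_lit 3), (nat_lit 7), (nat_lit 127), (nat_lit 126), (nat_lit 3), (nat_lit 2), (nat_lit 2), (nat_lit 2), (nat_lit 3), (nat_lit 2), (nat_lit 3), (nat_lit 4095), (nat_lit 0), row, jrow, drow, RR⟩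
theorem params : cert.paramsOK = true := by decide +kernel
theorem rules : rulesOK rels subs iv cert.L cert.LL cert.RR = true := by decide +kernel
theorem blk0 : cert.alive (nat_lit 0) (nat_lit 1) (nat_lit 3) = 0 := by decide +kernel
theorem up0 : cert.Upto 0 := PCert.upto_zero _
theorem up1 : cert.Upto 3 := up0.alive params blk0 (by decide)

theorem covers {G : Type*} [Group G] {g : ℕ → G} {H : Subgroup G}
    (h : Sat g H 10 iv rels subs) : Covers g 10 H 3 :=
  PCert.covers (p := cert) params rules (by decide +kernel) up1 h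

end CL.E32.Bm.Eabcdx

namespace CL.E32.Bm.Eabcdxt
open CL.CE CL.K

noncomputable def tT0 : ℕ := nat_lit 0x62675bc6f963b6b85fa5751240e30a206102
noncomputable def tJ0 : ℕ := nat_lit 0x555555466666
noncomputable def tD0 : ℕ := nat_lit 0x105000
noncomputable def tT : Tr := (.leaf tT0)
noncomputable def tJ : Tr := (.leaf tJ0)
noncomputable def tD : Tr := (.leaf tD0)

def rels : List (List ℕ) := [[0,1],
  [1,0],
  [2,3],
  [3,2],
  [4,5],
  [5,4],
  [6,7],
  [7,6],
  [8,9],
  [9,8],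
  [10,11],
  [11,10],
  [0,0,0,0],
  [0,0,3,3],
  [2,0,3,0],
  [0,0,5,5],
  [0,0,7,7],
  [6,4,7,4],
  [0,4,1,5],
  [0,6,1,7],
  [2,4,3,5],
  [2,6,3,7],
  [8,8,8],
  [8,0,9,3],
  [8,2,9,3,1],
  [8,4,9,7],
  [8,6,9,7,5],
  [10,8,11,8],
  [10,0,11,4],
  [10,2,11,4,6],
  [10,4,11,0],
  [10,6,11,0,2],
  [10,10,0,0]]
def subs : List (List ℕ) := [[0],
  [1],
  [2],
  [3],
  [4],
  [5],
  [6],
  [7],
  [8],
  [9]]
def iv (a : ℕ) : ℕ := [1,0,3,2,5,4,7,6,9,8,11,10,12].getD a 0
noncomputable def RR0 : List Rule := [.bwd [11,4,10] 28 1 0,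
  .sub [] [] 0 0]
noncomputable def RR1 : List Rule := [.bwd [0] 1 0 0]
noncomputable def RR2 : List Rule := [.bwd [11,4,6,10] 29 1 0,
  .sub [] [] 2 0]
noncomputable def RR3 : List Rule := [.bwd [2] 3 0 0]
noncomputable def RR4 : List Rule := [.bwd [11,0,10] 30 1 0,
  .sub [] [] 4 0]
noncomputable def RR5 : List Rule := [.bwd [4] 5 0 0]
noncomputable def RR6 : List Rule := [.bwd [11,0,2,10] 31 1 0,
  .sub [] [] 6 0]
noncomputable def RR7 : List Rule := [.bwd [6] 7 0 0]
noncomputable def RR8 : List Rule := [.bwd [11,8,10] 27 1 0,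
  .sub [] [] 8 0]
noncomputable def RR9 : List Rule := [.bwd [8] 9 0 0]
noncomputable def RR10 : List Rule := [.bwd [0,0,10] 32 1 0]
noncomputable def RR11 : List Rule := [.bwd [10] 11 0 0]
noncomputable def RR : List (List Rule) := [RR0, RR1, RR2, RR3, RR4, RR5, RR6, RR7, RR8, RR9, RR10, RR11]
noncomputable def rowp (j : ℕ) : ℕ := piece tT (nat_lit 3) (nat_lit 7) (nat_lit 2304) (Nat.pred (Nat.shiftLeft 1 (nat_lit 2304))) j
noncomputable def row (u : ℕ) : ℕ := rowOf rowp (nat_lit 5) (nat_lit 31) (nat_lit 72) u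
noncomputable def jrowp (j : ℕ) : ℕ := piece tJ (nat_lit 3) (nat_lit 7) (nat_lit 3072) (Nat.pred (Nat.shiftLeft 1 (nat_lit 3072))) j
noncomputable def jrow (u : ℕ) : ℕ := rowOf jrowp (nat_lit 7) (nat_lit 127) (nat_lit 24) u
noncomputable def drowp (j : ℕ) : ℕ := piece tD (nat_lit 3) (nat_lit 7) (nat_lit 2816) (Nat.pred (Nat.shiftLeft 1 (nat_lit 2816))) j
noncomputable def drow (u : ℕ) : ℕ := rowOf drowp (nat_lit 8) (nat_lit 255) (nat_lit 11) u
noncomputable def cert : PCert := ⟨(nat_lit 12), (nat_lit 12), (nat_lit 1), (nat_lit 6), (nat_lit 63), (nat_lit 62), (nat_lit 2), (nat_lit 1), (nat_lit 1), (nat_lit 2), (nat_lit 3), (nat_lit 2), (nat_lit 3), (nat_lit 2047), (nat_lit 0), row, jrow, drow, RR⟩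
theorem params : cert.paramsOK = true := by decide +kernel
theorem rules : rulesOK rels subs iv cert.L cert.LL cert.RR = true := by decide +kernel
theorem blk0 : cert.alive (nat_lit 0) (nat_lit 1) (nat_lit 2) = 0 := by decide +kernel
theorem up0 : cert.Upto 0 := PCert.upto_zero _
theorem up1 : cert.Upto 2 := up0.alive params blk0 (by decide)

theorem covers {G : Type*} [Group G] {g : ℕ → G} {H : Subgroup G}
    (h : Sat g H 12 iv rels subs) : Covers g 12 H 2 :=
  PCert.covers (p := cert) params rules (by decide +kernel) up1 h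

end CL.E32.Bm.Eabcdxt

namespace CL.E32.Bm
open CL.CE CL.K CL.Reg

def iv (a : ℕ) : ℕ := [1,0,3,2,5,4,7,6,9,8,11,10].getD a a
def Rels : List (List ℕ) := [[0,1], [1,0], [2,3], [3,2], [4,5], [5,4], [6,7], [7,6], [8,9], [9,8], [10,11], [11,10], [0,0,0,0], [0,0,3,3], [2,0,3,0], [0,0,5,5], [0,0,7,7], [6,4,7,4], [0,4,1,5], [0,6,1,7], [2,4,3,5], [2,6,3,7], [8,8,8], [8,0,9,3], [8,2,9,3,1], [8,4,9,7], [8,6,9,7,5], [10,8,11,8], [10,0,11,4], [10,2,11,4,6], [10,4,11,0], [10,6,11,0,2], [10,10,0,0]]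

theorem idx_a {G : Type*} [Group G] {g : ℕ → G} (h : Pres g iv Rels) :
    IdxLe (gen g []) (gen g [[0], [1]]) 4 :=
  h.idxLe _ _ CL.E32.Bm.Ea.covers (by decide +kernel)

theorem le_a {G : Type*} [Group G] {g : ℕ → G} (h : Pres g iv Rels) :
    CardLe (gen g [[0], [1]]) 4 :=
  (idx_a h).cardLe (cardLe_nil g) (by norm_num)

theorem idx_ab {G : Type*} [Group G] {g : ℕ → G} (h : Pres g iv Rels) :
    IdxLe (gen g [[0], [1]]) (gen g [[0], [1], [2], [3]]) 2 :=
  h.idxLe _ _ CL.E32.Bm.Eab.covers (by decide +kernel)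

theorem le_ab {G : Type*} [Group G] {g : ℕ → G} (h : Pres g iv Rels) :
    CardLe (gen g [[0], [1], [2], [3]]) 8 :=
  (idx_ab h).cardLe (le_a h) (by norm_num)

theorem idx_abc {G : Type*} [Group G] {g : ℕ → G} (h : Pres g iv Rels) :
    IdxLe (gen g [[0], [1], [2], [3]]) (gen g [[0], [1], [2], [3], [4], [5]]) 2 :=
  h.idxLe _ _ CL.E32.Bm.Eabc.covers (by decide +kernel)

theorem le_abc {G : Type*} [Group G] {g : ℕ → G} (h : Pres g iv Rels) :
    CardLe (gen g [[0], [1], [2], [3], [4], [5]]) 16 :=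
  (idx_abc h).cardLe (le_ab h) (by norm_num)

theorem idx_abcd {G : Type*} [Group G] {g : ℕ → G} (h : Pres g iv Rels) :
    IdxLe (gen g [[0], [1], [2], [3], [4], [5]]) (gen g [[0], [1], [2], [3], [4], [5], [6], [7]]) 2 :=
  h.idxLe _ _ CL.E32.Bm.Eabcd.covers (by decide +kernel)

theorem le_abcd {G : Type*} [Group G] {g : ℕ → G} (h : Pres g iv Rels) :
    CardLe (gen g [[0], [1], [2], [3], [4], [5], [6], [7]]) 32 :=
  (idx_abcd h).cardLe (le_abc h) (by norm_num)

theorem idx_abcdx {G : Type*} [Group G] {g : ℕ → G} (h : Pres g iv Rels) :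
    IdxLe (gen g [[0], [1], [2], [3], [4], [5], [6], [7]]) (gen g [[0], [1], [2], [3], [4], [5], [6], [7], [8], [9]]) 3 :=
  h.idxLe _ _ CL.E32.Bm.Eabcdx.covers (by decide +kernel)

theorem le_abcdx {G : Type*} [Group G] {g : ℕ → G} (h : Pres g iv Rels) :
    CardLe (gen g [[0], [1], [2], [3], [4], [5], [6], [7], [8], [9]]) 96 :=
  (idx_abcdx h).cardLe (le_abcd h) (by norm_num)

theorem idx_abcdxt {G : Type*} [Group G] {g : ℕ → G} (h : Pres g iv Rels) :
    IdxLe (gen g [[0], [1], [2], [3], [4], [5], [6], [7], [8], [9]]) (gen g [[0], [1], [2], [3], [4], [5], [6], [7], [8], [9], [10], [11]]) 2 :=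
  h.idxLe _ _ CL.E32.Bm.Eabcdxt.covers (by decide +kernel)

theorem le_abcdxt {G : Type*} [Group G] {g : ℕ → G} (h : Pres g iv Rels) :
    CardLe (gen g [[0], [1], [2], [3], [4], [5], [6], [7], [8], [9], [10], [11]]) 192 :=
  (idx_abcdxt h).cardLe (le_abcdx h) (by norm_num)

noncomputable def H_T : ℕ := nat_lit 0x939299bdb2b3a7a6babbb7b6929398bcb3b2a6a7bbbab6b78d8cbf99a5a49091b5b48e8f8c8dbe98a4a59190b4b58f8e87868ab9aeafa3a2bfbe949586878bb8afaea2a3bebf95948382bb8aa1a084858e8fb4b58283ba8ba0a185848f8eb5b47d7c80b5aaab9f9e9495bebf7c7d81b4abaa9e9f9594bfbe7978b7809d9c7a7bbcbdb9b87879b6819c9d7b7abdbcb8b9737276b1bfbe9697aeafabaa727377b0bebf9796afaeaaab6f6eb3769091a4a5a9a870716e6fb2779190a5a4a8a971706d696badbbba8889b3b27475696d6aacbabb8988b2b375746c68af6b8485a0a17071a8a9686cae6a8584a1a07170a9a8676365a9b7b67e7f7475b2b3636764a8b6b77f7e7574b3b26662ab657a7b9c9db0b1adac6266aa647b7a9d9cb1b0acad5b5a5ea59697bebfa2a39f9e5a5b5fa49796bfbea3a29e9f5756a75ebcbdb1b09d9c58595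657a65fbdbcb0b19c9d5958555153a18889babba7a65c5d515552a08988bbbaa6a75d5c5450a353b8b9adac58599c9d5054a252b9b8acad59589d9c4f4b4d9d7e7fb6b75c5da6a74b4f4c9c7f7eb7b65d5ca7a64e4a9f4db4b5a9a8a4a5a1a04a4e9e4cb5b4a8a9a5a4a0a19899938d45444647494860619998928c44454746484961609b9abdbf3f3e777641408b8a9a9bbcbe3e3f767740418a8b3b3a3e91a7a6b3b288897f7e3a3b3f90a6a7b2b389887e7f3938408f74755d5cb7b6bbba3839418e75745c5db6b7babbbebf8d9b39387c7d3b3a5a5bbfbe8c9a38397d7c3a3b5b5a3534973eb1b0bdbc7b7a36373435963fb0b1bcbd7a7b37363332954059583637b9b8bdbc3233944158593736b8b9bcbdbcbd9b93838233326f6e3534bdbc9a92828332336e6f34354746b8ba2f2e6b6a808198994647b9bb2e2f6a6b81809998312d2f85a3a2afae97963c3d2d312e84a2a3aeaf96973d3cbabb83467d7c3938312d5155bbba82477c7d38392d315551302c892fadacb9b836377a7b2c30882eacadb8b937367b7ab8b946878c8d79786c68302cb9b847868d8c7879686c2c304544b4b6292865648b8a40414445b5b7282964658a8b41402b27297b9f9eabaa3c3d9697272b287a9e9faaab3d3c9796b6b77944868793922b274b4fb7b678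4587869293272b4f4b2a267f29a9a8b5b490918584262a7e28a8a9b4b591908485b4b5447d3332828366622a26b5b4457c323383826266262a6160b0b25e5f989921206b6a6061b1b35f5e999820216a6b231f217195943c3dabaaafae1f23207094953d3caaabaeafb2b36f60231f63675b5a3b3ab3b26e611f2367635a5b3a3b221e752136375859adacb1b01e22742037365958acadb0b1b0b160736c68221e8c8d5756b1b06172686c1e228d8c5657aeaf6c1d6763231f5551312dacad1d6d6e6f6662828354501d1cadaf52538a8b646576771c1dacae53528b8a65647776afae681c63671f2351552d31adac1c696f6e626683825054aaab661b696d73724f4b2b27a8a91b67221e686c78794e4a1b1aa9ab4c4d80816b6a20211a1ba8aa4d4c81806a6b2120abaa621a6d6972734b4f272ba9a81a631e226c6879784a4e7677726e1b1a1c1d25249b9a7776736f1a1b1d1c24259a9b4948a4a677763e3f171653524849a5a776773f3e16175253191517593c3d94959f9ea3a2151916583d3c95949e9fa2a3a6a7574819154b4f72739392a7a6564915194f4b7372929318145d178e8f7170a1a0a5a414185c168f8e7071a0a1a4a5a4a5485b5450181435346e6fa5a4495a5054141834356f6ea2a354134f4b1915696d8786a0a11355565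74e4a302c686c1312a1a36b6a2e2f4c4d5e5f1213a0a26a6b2f2e4d4c5f5ea3a250124b4f15196d698687a1a0125157564a4e2c306c689e9f4e1151555b5a63677d7c9c9d114f181450542a26626611109d9f656428295352161710119c9e64652928525317169f9e4a1055515a5b67637c7d9d9c104b14185450262a66625e5f5a56111012139a9b25245f5e5b57101113129b9a24258a8b86820f0e9b9a13121c1d8b8a87830e0f9a9b12131d1c80817c789a9b0f0e11101a1b81807d799b9a0e0f10111b1a3c3d420d3a3b2d3138391f2336370d43262a3435141832330f0e8e940c0b2120989981800e0f8f950b0c2021999880812524909698995f5e0c0b2f2e2425919799985e5f0b0c2e2f430a0c375d5c75747f7e89880a430b365c5d74757e7f888996973524430a272b92937273979634250a432b27939273729495330e92938687430a15199594320f939287860a43191542093d0c71708f8e8584919009423c0b70718e8f848590919091243b302c420956578c8d9190253a2c30094257568d8c8e8f0e3978798c8d221e42098f8e0f3879788d8c1e220942888930082b27430a8687696d8485083134352a2650548283080785898a8b535228293e3f070884888b8a525329283f3e89882c07272b0a4387866d698584072d3534262a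545083827e7f2a062d313b3a7c7d63677a7b062b42092c304a4e787906057b7f80814d4c2f2e0b0c05067a7e81804c4d2e2f0c0b7f7e2605312d3a3b7d7c67637b7a05270942302c4e4a79783e3f3a3406050708606148493f3e3b350506080761604948747522047273696d1915430a7071042362666e6f3233181404037175161740417677656403047074171641407776646575741e0373726d6915190a437170031f66626f6e333214186a6b6d6c04036160080747466b6a696803046061070846476465676660610403060545446564636261600304050644455c5d18025a5b51551f233938585902194a4e565742091e220201595d21200b0c5e5f4d4c0102585c20210c0b5f5e4c4d5d5c14015b5a5551231f3839595801154e4a57560942221e5253555402014948464708075352515001024849474607084c4d4f4e48490201444506054d4c4b4a49480102454405064041383246474445020103044140393347464544010204030b0c434207080506030401020d00373d404117163e3f2928000d363c414016173f3e28293d3c09003b3a312d3938231f3736000a2a263534181433322e2f31300d0025241c1d12132f2e2d2c000d24251d1c131228292b2a24250d001a1b1011292827262524000d1b1a1110202123221c1d1a1b0d000f0e21201f1e1d1c1b1a000d0e0f16171918121310110e0f0d0017161514131211100f0e000d0c0b0a090807060504030201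
noncomputable def H_W : ℕ := nat_lit 0xc73ab73ac519b519c3a7b3a7c197b197c3a5b3a5c195b195c7a3b7a3c593b593ca73ba73c973b973ca53ba53c953b953c7a1b7a1c591b591ca71ba71c971b971ca51ba51c951b95185317531083b073b0c7a0b7a0c3a0b3a083a073a0c590b590c190b190619051908b707b70ca70ba704a703a70c970b970297019708b507b50ca50ba504a503a50c950b950295019504b303b30ca30ba308a307a30c930b93069305930a8309830c730b730a7309730a6309630c530b530a5309530853075304b103b10ca10ba108a107a10c910b91069105910a8109810c710b710a7109710a6109610c510b510a5109510851075108310731063105310a110911008b007b004b003b00ca00ba008a007a004a003a00c900b9006900590029001900a8009800c700b700a7009700a6009600c500b500a500950085007500a4009400c300b300a30093008300730063005300a2009200c100b100a100910081007100610051004100310011000c000b000a0009000800070006000500040003000200010000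
noncomputable def H_I : ℕ := nat_lit 0xbebf9c9da6a7a8a9b2b3b4b5b6b7a0a19e9facadaaabb8b9babba4a5a2a3b0b1aeafbcbd9b9a6a6b949596976c6858597a7b4f4b8a8b5c5d666270715b5a535274756f6e8e8f555176777e7f545084857d7c4e9398994a9257875f5e56866160656488898382909167637973818078728d6d4c4d8c6949484746454442432f2e21203c3d2c301e223637272b1519263a41402a3b342d16173531242514383f3e18391d1c1b1a321f28293323131211100e0f0d0b0c090a070805060304010200
noncomputable def H_dat : Dat := ⟨nat_lit 192, nat_lit 12, nat_lit 4, [1,0,3,2,5,4,7,6,9,8,11,10], tb (nat_lit 12) (nat_lit 8) (nat_lit 255) H_T,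
  fld (nat_lit 16) (nat_lit 65535) H_W, fld (nat_lit 8) (nat_lit 255) H_I⟩
theorem H_chk : H_dat.Chk Rels :=
  Dat.chk_of (a := 12) (b := 16) (by decide +kernel) rfl (by decide +kernel)
theorem H_good : H_dat.Good Rels := H_chk.good fun _ hg => le_abcdxt hg
/-- the group of the table -/
abbrev H : Type := RG H_dat H_good
theorem H_hom {G : Type*} [Group G] {g : ℕ → G} (hg : Pres g iv Rels) :
    ∃ φ : H →* G, φ.range = gen g [[0], [1], [2], [3], [4], [5], [6], [7], [8], [9], [10], [11]] ∧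
      ∀ w : List ℕ, ltAll 12 w = true → φ (RG.wd H_good w) = ev g w :=
  RG.exists_hom hg fun _ hg' => le_abcdxt hg'

noncomputable def a : H := RG.mk' H_good (nat_lit 1)
noncomputable def b : H := RG.mk' H_good (nat_lit 3)
noncomputable def c : H := RG.mk' H_good (nat_lit 5)
noncomputable def d : H := RG.mk' H_good (nat_lit 7)
noncomputable def x : H := RG.mk' H_good (nat_lit 9)
noncomputable def s : H := RG.mk' H_good (nat_lit 13)
noncomputable def t : H := RG.mk' H_good (nat_lit 11)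
theorem wd_a : RG.wd H_good [0] = a := by decide +kernel
theorem wd_b : RG.wd H_good [2] = b := by decide +kernel
theorem wd_c : RG.wd H_good [4] = c := by decide +kernel
theorem wd_d : RG.wd H_good [6] = d := by decide +kernel
theorem wd_x : RG.wd H_good [8] = x := by decide +kernel
theorem wd_t : RG.wd H_good [10] = t := by decide +kernel

end CL.E32.Bm
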