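/- A group 2^(1+4).S3 as a table (generated). -/
import Cfsg.Agent.SPOR.A10.Reg
set_option autoImplicit false
set_option maxRecDepth 100000

namespace CL.E32.Bp.Ea
open CL.CE CL.K

noncomputable def tT0 : ℕ := nat_lit 0x75a5d0223385
noncomputable def tJ0 : ℕ := nat_lit 0x9150
noncomputable def tD0 : ℕ := nat_lit 0x700a004800000
noncomputable def tT : Tr := (.leaf tT0)
noncomputable def tJ : Tr := (.leaf tJ0)
noncomputable def tD : Tr := (.leaf tD0)

def rels : List (List ℕ) := [[0,1],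
  [1,0],
  [0,0,0,0]]
def subs : List (List ℕ) := []
def iv (a : ℕ) : ℕ := [1,0,2].getD a 0
noncomputable def RR0 : List Rule := [.bwd [1] 0 0 0]
noncomputable def RR1 : List Rule := [.bwd [0] 1 0 0,
  .bwd [1,1,1] 2 1 1]
noncomputable def RR : List (List Rule) := [RR0, RR1]
noncomputable def rowp (j : ℕ) : ℕ := piece tT (nat_lit 3) (nat_lit 7) (nat_lit 3072) (Nat.pred (Nat.shiftLeft 1 (nat_lit 3072))) j
noncomputable def row (u : ℕ) : ℕ := rowOf rowp (nat_lit 8) (nat_lit 255) (nat_lit 12) u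
noncomputable def jrowp (j : ℕ) : ℕ := piece tJ (nat_lit 3) (nat_lit 7) (nat_lit 4096) (Nat.pred (Nat.shiftLeft 1 (nat_lit 4096))) j
noncomputable def jrow (u : ℕ) : ℕ := rowOf jrowp (nat_lit 10) (nat_lit 1023) (nat_lit 4) u
noncomputable def drowp (j : ℕ) : ℕ := piece tD (nat_lit 3) (nat_lit 7) (nat_lit 3328) (Nat.pred (Nat.shiftLeft 1 (nat_lit 3328))) j
noncomputable def drow (u : ℕ) : ℕ := rowOf drowp (nat_lit 8) (nat_lit 255) (nat_lit 13) u
noncomputable def cert : PCert := ⟨(nat_lit 2), (nat_lit 2), (nat_lit 3), (nat_lit 6), (nat_lit 63), (nat_lit 62), (nat_lit 4), (nat_lit 3), (nat_lit 3), (nat_lit 2), (nat_lit 3), (nat_lit 2), (nat_lit 3), (nat_lit 8191), (nat_lit 0), row, jrow, drow, RR⟩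
theorem params : cert.paramsOK = true := by decide +kernel
theorem rules : rulesOK rels subs iv cert.L cert.LL cert.RR = true := by decide +kernel
theorem blk0 : cert.alive (nat_lit 0) (nat_lit 1) (nat_lit 4) = 0 := by decide +kernel
theorem up0 : cert.Upto 0 := PCert.upto_zero _
theorem up1 : cert.Upto 4 := up0.alive params blk0 (by decide)

theorem covers {G : Type*} [Group G] {g : ℕ → G} {H : Subgroup G}
    (h : Sat g H 2 iv rels subs) : Covers g 2 H 4 :=
  PCert.covers (p := cert) params rules (by decide +kernel) up1 h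

end CL.E32.Bp.Ea

namespace CL.E32.Bp.Eab
open CL.CE CL.K

noncomputable def tT0 : ℕ := nat_lit 0x5222f3b482
noncomputable def tJ0 : ℕ := nat_lit 0x5615
noncomputable def tD0 : ℕ := nat_lit 0x101800
noncomputable def tT : Tr := (.leaf tT0)
noncomputable def tJ : Tr := (.leaf tJ0)
noncomputable def tD : Tr := (.leaf tD0)

def rels : List (List ℕ) := [[0,1],
  [1,0],
  [2,3],
  [3,2],
  [0,0,0,0],
  [0,0,3,3],
  [2,0,3,0]]
def subs : List (List ℕ) := [[0],
  [1]]
def iv (a : ℕ) : ℕ := [1,0,3,2,4].getD a 0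
noncomputable def RR0 : List Rule := [.sub [] [] 0 0,
  .bwd [2,0,3] 6 3 0]
noncomputable def RR1 : List Rule := [.bwd [0] 1 0 0]
noncomputable def RR2 : List Rule := [.bwd [3] 2 0 0]
noncomputable def RR3 : List Rule := [.bwd [0,0,3] 5 3 0]
noncomputable def RR : List (List Rule) := [RR0, RR1, RR2, RR3]
noncomputable def rowp (j : ℕ) : ℕ := piece tT (nat_lit 3) (nat_lit 7) (nat_lit 2560) (Nat.pred (Nat.shiftLeft 1 (nat_lit 2560))) j
noncomputable def row (u : ℕ) : ℕ := rowOf rowp (nat_lit 7) (nat_lit 127) (nat_lit 20) u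
noncomputable def jrowp (j : ℕ) : ℕ := piece tJ (nat_lit 3) (nat_lit 7) (nat_lit 4096) (Nat.pred (Nat.shiftLeft 1 (nat_lit 4096))) j
noncomputable def jrow (u : ℕ) : ℕ := rowOf jrowp (nat_lit 9) (nat_lit 511) (nat_lit 8) u
noncomputable def drowp (j : ℕ) : ℕ := piece tD (nat_lit 3) (nat_lit 7) (nat_lit 2816) (Nat.pred (Nat.shiftLeft 1 (nat_lit 2816))) j
noncomputable def drow (u : ℕ) : ℕ := rowOf drowp (nat_lit 8) (nat_lit 255) (nat_lit 11) u
noncomputable def cert : PCert := ⟨(nat_lit 4), (nat_lit 4), (nat_lit 1), (nat_lit 5), (nat_lit 31), (nat_lit 30), (nat_lit 2), (nat_lit 1), (nat_lit 1), (nat_lit 2), (nat_lit 3), (nat_lit 2), (nat_lit 3), (nat_lit 2047), (nat_lit 0), row, jrow, drow, RR⟩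
theorem params : cert.paramsOK = true := by decide +kernel
theorem rules : rulesOK rels subs iv cert.L cert.LL cert.RR = true := by decide +kernel
theorem blk0 : cert.alive (nat_lit 0) (nat_lit 1) (nat_lit 2) = 0 := by decide +kernel
theorem up0 : cert.Upto 0 := PCert.upto_zero _
theorem up1 : cert.Upto 2 := up0.alive params blk0 (by decide)

theorem covers {G : Type*} [Group G] {g : ℕ → G} {H : Subgroup G}
    (h : Sat g H 4 iv rels subs) : Covers g 4 H 2 :=
  PCert.covers (p := cert) params rules (by decide +kernel) up1 h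

end CL.E32.Bp.Eab

namespace CL.E32.Bp.Eabc
open CL.CE CL.K

noncomputable def tT0 : ℕ := nat_lit 0x73337acd7141882
noncomputable def tJ0 : ℕ := nat_lit 0x566155
noncomputable def tD0 : ℕ := nat_lit 0x102800
noncomputable def tT : Tr := (.leaf tT0)
noncomputable def tJ : Tr := (.leaf tJ0)
noncomputable def tD : Tr := (.leaf tD0)

def rels : List (List ℕ) := [[0,1],
  [1,0],
  [2,3],
  [3,2],
  [4,5],
  [5,4],
  [0,0,0,0],
  [0,0,3,3],
  [2,0,3,0],
  [0,0,5,5],
  [0,4,1,5],
  [2,4,3,5]]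
def subs : List (List ℕ) := [[0],
  [1],
  [2],
  [3]]
def iv (a : ℕ) : ℕ := [1,0,3,2,5,4,6].getD a 0
noncomputable def RR0 : List Rule := [.sub [] [] 0 0,
  .bwd [4,1,5] 10 0 0]
noncomputable def RR1 : List Rule := [.bwd [0] 1 0 0]
noncomputable def RR2 : List Rule := [.sub [] [] 2 0,
  .bwd [4,3,5] 11 0 0]
noncomputable def RR3 : List Rule := [.bwd [2] 3 0 0]
noncomputable def RR4 : List Rule := [.bwd [5] 4 0 0]
noncomputable def RR5 : List Rule := [.bwd [0,0,5] 9 3 0]
noncomputable def RR : List (List Rule) := [RR0, RR1, RR2, RR3, RR4, RR5]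
noncomputable def rowp (j : ℕ) : ℕ := piece tT (nat_lit 3) (nat_lit 7) (nat_lit 3840) (Nat.pred (Nat.shiftLeft 1 (nat_lit 3840))) j
noncomputable def row (u : ℕ) : ℕ := rowOf rowp (nat_lit 7) (nat_lit 127) (nat_lit 30) u
noncomputable def jrowp (j : ℕ) : ℕ := piece tJ (nat_lit 3) (nat_lit 7) (nat_lit 3072) (Nat.pred (Nat.shiftLeft 1 (nat_lit 3072))) j
noncomputable def jrow (u : ℕ) : ℕ := rowOf jrowp (nat_lit 8) (nat_lit 255) (nat_lit 12) u
noncomputable def drowp (j : ℕ) : ℕ := piece tD (nat_lit 3) (nat_lit 7) (nat_lit 2816) (Nat.pred (Nat.shiftLeft 1 (nat_lit 2816))) j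
noncomputable def drow (u : ℕ) : ℕ := rowOf drowp (nat_lit 8) (nat_lit 255) (nat_lit 11) u
noncomputable def cert : PCert := ⟨(nat_lit 6), (nat_lit 6), (nat_lit 1), (nat_lit 5), (nat_lit 31), (nat_lit 30), (nat_lit 2), (nat_lit 1), (nat_lit 1), (nat_lit 2), (nat_lit 3), (nat_lit 2), (nat_lit 3), (nat_lit 2047), (nat_lit 0), row, jrow, drow, RR⟩
theorem params : cert.paramsOK = true := by decide +kernel
theorem rules : rulesOK rels subs iv cert.L cert.LL cert.RR = true := by decide +kernel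
theorem blk0 : cert.alive (nat_lit 0) (nat_lit 1) (nat_lit 2) = 0 := by decide +kernel
theorem up0 : cert.Upto 0 := PCert.upto_zero _
theorem up1 : cert.Upto 2 := up0.alive params blk0 (by decide)

theorem covers {G : Type*} [Group G] {g : ℕ → G} {H : Subgroup G}
    (h : Sat g H 6 iv rels subs) : Covers g 6 H 2 :=
  PCert.covers (p := cert) params rules (by decide +kernel) up1 h

end CL.E32.Bp.Eabc

namespace CL.E32.Bp.Eabcd
open CL.CE CL.K

noncomputable def tT0 : ℕ := nat_lit 0x49065785f75b3d530a206102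
noncomputable def tJ0 : ℕ := nat_lit 0x56661555
noncomputable def tD0 : ℕ := nat_lit 0x103800
noncomputable def tT : Tr := (.leaf tT0)
noncomputable def tJ : Tr := (.leaf tJ0)
noncomputable def tD : Tr := (.leaf tD0)

def rels : List (List ℕ) := [[0,1],
  [1,0],
  [2,3],
  [3,2],
  [4,5],
  [5,4],
  [6,7],
  [7,6],
  [0,0,0,0],
  [0,0,3,3],
  [2,0,3,0],
  [0,0,5,5],
  [0,0,7,7],
  [6,4,7,4],
  [0,4,1,5],
  [0,6,1,7],
  [2,4,3,5],
  [2,6,3,7]]
def subs : List (List ℕ) := [[0],
  [1],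
  [2],
  [3],
  [4],
  [5]]
def iv (a : ℕ) : ℕ := [1,0,3,2,5,4,7,6,8].getD a 0
noncomputable def RR0 : List Rule := [.sub [] [] 0 0,
  .bwd [6,1,7] 15 0 0]
noncomputable def RR1 : List Rule := [.bwd [0] 1 0 0]
noncomputable def RR2 : List Rule := [.sub [] [] 2 0,
  .bwd [6,3,7] 17 0 0]
noncomputable def RR3 : List Rule := [.bwd [2] 3 0 0]
noncomputable def RR4 : List Rule := [.sub [] [] 4 0,
  .bwd [6,4,7] 13 3 0]
noncomputable def RR5 : List Rule := [.bwd [4] 5 0 0]
noncomputable def RR6 : List Rule := [.bwd [7] 6 0 0]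
noncomputable def RR7 : List Rule := [.bwd [0,0,7] 12 3 0]
noncomputable def RR : List (List Rule) := [RR0, RR1, RR2, RR3, RR4, RR5, RR6, RR7]
noncomputable def rowp (j : ℕ) : ℕ := piece tT (nat_lit 3) (nat_lit 7) (nat_lit 3072) (Nat.pred (Nat.shiftLeft 1 (nat_lit 3072))) j
noncomputable def row (u : ℕ) : ℕ := rowOf rowp (nat_lit 6) (nat_lit 63) (nat_lit 48) u
noncomputable def jrowp (j : ℕ) : ℕ := piece tJ (nat_lit 3) (nat_lit 7) (nat_lit 4096) (Nat.pred (Nat.shiftLeft 1 (nat_lit 4096))) j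
noncomputable def jrow (u : ℕ) : ℕ := rowOf jrowp (nat_lit 8) (nat_lit 255) (nat_lit 16) u
noncomputable def drowp (j : ℕ) : ℕ := piece tD (nat_lit 3) (nat_lit 7) (nat_lit 2816) (Nat.pred (Nat.shiftLeft 1 (nat_lit 2816))) j
noncomputable def drow (u : ℕ) : ℕ := rowOf drowp (nat_lit 8) (nat_lit 255) (nat_lit 11) u
noncomputable def cert : PCert := ⟨(nat_lit 8), (nat_lit 8), (nat_lit 1), (nat_lit 6), (nat_lit 63), (nat_lit 62), (nat_lit 2), (nat_lit 1), (nat_lit 1), (nat_lit 2), (nat_lit 3), (nat_lit 2), (nat_lit 3), (nat_lit 2047), (nat_lit 0), row, jrow, drow, RR⟩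
theorem params : cert.paramsOK = true := by decide +kernel
theorem rules : rulesOK rels subs iv cert.L cert.LL cert.RR = true := by decide +kernel
theorem blk0 : cert.alive (nat_lit 0) (nat_lit 1) (nat_lit 2) = 0 := by decide +kernel
theorem up0 : cert.Upto 0 := PCert.upto_zero _
theorem up1 : cert.Upto 2 := up0.alive params blk0 (by decide)

theorem covers {G : Type*} [Group G] {g : ℕ → G} {H : Subgroup G}
    (h : Sat g H 8 iv rels subs) : Covers g 8 H 2 :=
  PCert.covers (p := cert) params rules (by decide +kernel) up1 h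

end CL.E32.Bp.Eabcd

namespace CL.E32.Bp.Eabcdx
open CL.CE CL.K

noncomputable def tT0 : ℕ := nat_lit 0x28d4f5db566e5bb15e513a4c572d60bd62b6d254070c142030404
noncomputable def tJ0 : ℕ := nat_lit 0x555554555546666
noncomputable def tD0 : ℕ := nat_lit 0x908408000
noncomputable def tT : Tr := (.leaf tT0)
noncomputable def tJ : Tr := (.leaf tJ0)
noncomputable def tD : Tr := (.leaf tD0)

def rels : List (List ℕ) := [[0,1],
  [1,0],
  [2,3],
  [3,2],
  [4,5],
  [5,4],
  [6,7],
  [7,6],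
  [8,9],
  [9,8],
  [0,0,0,0],
  [0,0,3,3],
  [2,0,3,0],
  [0,0,5,5],
  [0,0,7,7],
  [6,4,7,4],
  [0,4,1,5],
  [0,6,1,7],
  [2,4,3,5],
  [2,6,3,7],
  [8,8,8],
  [8,0,9,3],
  [8,2,9,3,1],
  [8,4,9,7],
  [8,6,9,7,5]]
def subs : List (List ℕ) := [[0],
  [1],
  [2],
  [3],
  [4],
  [5],
  [6],
  [7]]
def iv (a : ℕ) : ℕ := [1,0,3,2,5,4,7,6,9,8,10].getD a 0
noncomputable def RR0 : List Rule := [.bwd [9,3,8] 21 1 0,
  .sub [] [] 0 0]
noncomputable def RR1 : List Rule := [.bwd [0] 1 0 0]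
noncomputable def RR2 : List Rule := [.bwd [9,3,1,8] 22 1 0,
  .sub [] [] 2 0]
noncomputable def RR3 : List Rule := [.bwd [2] 3 0 0]
noncomputable def RR4 : List Rule := [.bwd [9,7,8] 23 1 0,
  .sub [] [] 4 0]
noncomputable def RR5 : List Rule := [.bwd [4] 5 0 0]
noncomputable def RR6 : List Rule := [.bwd [9,7,5,8] 24 1 0,
  .sub [] [] 6 0]
noncomputable def RR7 : List Rule := [.bwd [6] 7 0 0]
noncomputable def RR8 : List Rule := [.bwd [8,8] 20 1 0]
noncomputable def RR9 : List Rule := [.bwd [8] 9 0 0]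
noncomputable def RR : List (List Rule) := [RR0, RR1, RR2, RR3, RR4, RR5, RR6, RR7, RR8, RR9]
noncomputable def rowp (j : ℕ) : ℕ := piece tT (nat_lit 3) (nat_lit 7) (nat_lit 2240) (Nat.pred (Nat.shiftLeft 1 (nat_lit 2240))) j
noncomputable def row (u : ℕ) : ℕ := rowOf rowp (nat_lit 5) (nat_lit 31) (nat_lit 70) u
noncomputable def jrowp (j : ℕ) : ℕ := piece tJ (nat_lit 3) (nat_lit 7) (nat_lit 2560) (Nat.pred (Nat.shiftLeft 1 (nat_lit 2560))) j
noncomputable def jrow (u : ℕ) : ℕ := rowOf jrowp (nat_lit 7) (nat_lit 127) (nat_lit 20) u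
noncomputable def drowp (j : ℕ) : ℕ := piece tD (nat_lit 3) (nat_lit 7) (nat_lit 3072) (Nat.pred (Nat.shiftLeft 1 (nat_lit 3072))) j
noncomputable def drow (u : ℕ) : ℕ := rowOf drowp (nat_lit 8) (nat_lit 255) (nat_lit 12) u
noncomputable def cert : PCert := ⟨(nat_lit 10), (nat_lit 10), (nat_lit 3), (nat_lit 7), (nat_lit 127), (nat_lit 126), (nat_lit 3), (nat_lit 2), (nat_lit 2), (nat_lit 2), (nat_lit 3), (nat_lit 2), (nat_lit 3), (nat_lit 4095), (nat_lit 0), row, jrow, drow, RR⟩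
theorem params : cert.paramsOK = true := by decide +kernel
theorem rules : rulesOK rels subs iv cert.L cert.LL cert.RR = true := by decide +kernel
theorem blk0 : cert.alive (nat_lit 0) (nat_lit 1) (nat_lit 3) = 0 := by decide +kernel
theorem up0 : cert.Upto 0 := PCert.upto_zero _
theorem up1 : cert.Upto 3 := up0.alive params blk0 (by decide)

theorem covers {G : Type*} [Group G] {g : ℕ → G} {H : Subgroup G}
    (h : Sat g H 10 iv rels subs) : Covers g 10 H 3 :=
  PCert.covers (p := cert) params rules (by decide +kernel) up1 h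

end CL.E32.Bp.Eabcdx

namespace CL.E32.Bp.Eabcdxt
open CL.CE CL.K

noncomputable def tT0 : ℕ := nat_lit 0x61a85fc6fa67b6b96375751240e30a206102
noncomputable def tJ0 : ℕ := nat_lit 0x555555466666
noncomputable def tD0 : ℕ := nat_lit 0x105000
noncomputable def tT : Tr := (.leaf tT0)
noncomputable def tJ : Tr := (.leaf tJ0)
noncomputable def tD : Tr := (.leaf tD0)

def rels : List (List ℕ) := [[0,1],
  [1,0],
  [2,3],
  [3,2],
  [4,5],
  [5,4],
  [6,7],
  [7,6],
  [8,9],
  [9,8],
  [10,11],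
  [11,10],
  [0,0,0,0],
  [0,0,3,3],
  [2,0,3,0],
  [0,0,5,5],
  [0,0,7,7],
  [6,4,7,4],
  [0,4,1,5],
  [0,6,1,7],
  [2,4,3,5],
  [2,6,3,7],
  [8,8,8],
  [8,0,9,3],
  [8,2,9,3,1],
  [8,4,9,7],
  [8,6,9,7,5],
  [10,8,11,8],
  [10,0,11,4],
  [10,2,11,4,6],
  [10,4,11,0],
  [10,6,11,0,2],
  [10,10]]
def subs : List (List ℕ) := [[0],
  [1],
  [2],
  [3],
  [4],
  [5],
  [6],
  [7],
  [8],
  [9]]
def iv (a : ℕ) : ℕ := [1,0,3,2,5,4,7,6,9,8,11,10,12].getD a 0
noncomputable def RR0 : List Rule := [.bwd [11,4,10] 28 1 0,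
  .sub [] [] 0 0]
noncomputable def RR1 : List Rule := [.bwd [0] 1 0 0]
noncomputable def RR2 : List Rule := [.bwd [11,4,6,10] 29 1 0,
  .sub [] [] 2 0]
noncomputable def RR3 : List Rule := [.bwd [2] 3 0 0]
noncomputable def RR4 : List Rule := [.bwd [11,0,10] 30 1 0,
  .sub [] [] 4 0]
noncomputable def RR5 : List Rule := [.bwd [4] 5 0 0]
noncomputable def RR6 : List Rule := [.bwd [11,0,2,10] 31 1 0,
  .sub [] [] 6 0]
noncomputable def RR7 : List Rule := [.bwd [6] 7 0 0]
noncomputable def RR8 : List Rule := [.bwd [11,8,10] 27 1 0,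
  .sub [] [] 8 0]
noncomputable def RR9 : List Rule := [.bwd [8] 9 0 0]
noncomputable def RR10 : List Rule := [.bwd [10] 32 1 0]
noncomputable def RR11 : List Rule := [.bwd [10] 11 0 0]
noncomputable def RR : List (List Rule) := [RR0, RR1, RR2, RR3, RR4, RR5, RR6, RR7, RR8, RR9, RR10, RR11]
noncomputable def rowp (j : ℕ) : ℕ := piece tT (nat_lit 3) (nat_lit 7) (nat_lit 2304) (Nat.pred (Nat.shiftLeft 1 (nat_lit 2304))) j
noncomputable def row (u : ℕ) : ℕ := rowOf rowp (nat_lit 5) (nat_lit 31) (nat_lit 72) u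
noncomputable def jrowp (j : ℕ) : ℕ := piece tJ (nat_lit 3) (nat_lit 7) (nat_lit 3072) (Nat.pred (Nat.shiftLeft 1 (nat_lit 3072))) j
noncomputable def jrow (u : ℕ) : ℕ := rowOf jrowp (nat_lit 7) (nat_lit 127) (nat_lit 24) u
noncomputable def drowp (j : ℕ) : ℕ := piece tD (nat_lit 3) (nat_lit 7) (nat_lit 2816) (Nat.pred (Nat.shiftLeft 1 (nat_lit 2816))) j
noncomputable def drow (u : ℕ) : ℕ := rowOf drowp (nat_lit 8) (nat_lit 255) (nat_lit 11) u
noncomputable def cert : PCert := ⟨(nat_lit 12), (nat_lit 12), (nat_lit 1), (nat_lit 6), (nat_lit 63), (nat_lit 62), (nat_lit 2), (nat_lit 1), (nat_lit 1), (nat_lit 2), (nat_lit 3), (nat_lit 2), (nat_lit 3), (nat_lit 2047), (nat_lit 0), row, jrow, drow, RR⟩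
theorem params : cert.paramsOK = true := by decide +kernel
theorem rules : rulesOK rels subs iv cert.L cert.LL cert.RR = true := by decide +kernel
theorem blk0 : cert.alive (nat_lit 0) (nat_lit 1) (nat_lit 2) = 0 := by decide +kernel
theorem up0 : cert.Upto 0 := PCert.upto_zero _
theorem up1 : cert.Upto 2 := up0.alive params blk0 (by decide)

theorem covers {G : Type*} [Group G] {g : ℕ → G} {H : Subgroup G}
    (h : Sat g H 12 iv rels subs) : Covers g 12 H 2 :=
  PCert.covers (p := cert) params rules (by decide +kernel) up1 h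

end CL.E32.Bp.Eabcdxt

namespace CL.E32.Bp
open CL.CE CL.K CL.Reg

def iv (a : ℕ) : ℕ := [1,0,3,2,5,4,7,6,9,8,11,10].getD a a
def Rels : List (List ℕ) := [[0,1], [1,0], [2,3], [3,2], [4,5], [5,4], [6,7], [7,6], [8,9], [9,8], [10,11], [11,10], [0,0,0,0], [0,0,3,3], [2,0,3,0], [0,0,5,5], [0,0,7,7], [6,4,7,4], [0,4,1,5], [0,6,1,7], [2,4,3,5], [2,6,3,7], [8,8,8], [8,0,9,3], [8,2,9,3,1], [8,4,9,7], [8,6,9,7,5], [10,8,11,8], [10,0,11,4], [10,2,11,4,6], [10,4,11,0], [10,6,11,0,2], [10,10]]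

theorem idx_a {G : Type*} [Group G] {g : ℕ → G} (h : Pres g iv Rels) :
    IdxLe (gen g []) (gen g [[0], [1]]) 4 :=
  h.idxLe _ _ CL.E32.Bp.Ea.covers (by decide +kernel)

theorem le_a {G : Type*} [Group G] {g : ℕ → G} (h : Pres g iv Rels) :
    CardLe (gen g [[0], [1]]) 4 :=
  (idx_a h).cardLe (cardLe_nil g) (by norm_num)

theorem idx_ab {G : Type*} [Group G] {g : ℕ → G} (h : Pres g iv Rels) :
    IdxLe (gen g [[0], [1]]) (gen g [[0], [1], [2], [3]]) 2 :=
  h.idxLe _ _ CL.E32.Bp.Eab.covers (by decide +kernel)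

theorem le_ab {G : Type*} [Group G] {g : ℕ → G} (h : Pres g iv Rels) :
    CardLe (gen g [[0], [1], [2], [3]]) 8 :=
  (idx_ab h).cardLe (le_a h) (by norm_num)

theorem idx_abc {G : Type*} [Group G] {g : ℕ → G} (h : Pres g iv Rels) :
    IdxLe (gen g [[0], [1], [2], [3]]) (gen g [[0], [1], [2], [3], [4], [5]]) 2 :=
  h.idxLe _ _ CL.E32.Bp.Eabc.covers (by decide +kernel)

theorem le_abc {G : Type*} [Group G] {g : ℕ → G} (h : Pres g iv Rels) :
    CardLe (gen g [[0], [1], [2], [3], [4], [5]]) 16 :=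
  (idx_abc h).cardLe (le_ab h) (by norm_num)

theorem idx_abcd {G : Type*} [Group G] {g : ℕ → G} (h : Pres g iv Rels) :
    IdxLe (gen g [[0], [1], [2], [3], [4], [5]]) (gen g [[0], [1], [2], [3], [4], [5], [6], [7]]) 2 :=
  h.idxLe _ _ CL.E32.Bp.Eabcd.covers (by decide +kernel)

theorem le_abcd {G : Type*} [Group G] {g : ℕ → G} (h : Pres g iv Rels) :
    CardLe (gen g [[0], [1], [2], [3], [4], [5], [6], [7]]) 32 :=
  (idx_abcd h).cardLe (le_abc h) (by norm_num)

theorem idx_abcdx {G : Type*} [Group G] {g : ℕ → G} (h : Pres g iv Rels) :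
    IdxLe (gen g [[0], [1], [2], [3], [4], [5], [6], [7]]) (gen g [[0], [1], [2], [3], [4], [5], [6], [7], [8], [9]]) 3 :=
  h.idxLe _ _ CL.E32.Bp.Eabcdx.covers (by decide +kernel)

theorem le_abcdx {G : Type*} [Group G] {g : ℕ → G} (h : Pres g iv Rels) :
    CardLe (gen g [[0], [1], [2], [3], [4], [5], [6], [7], [8], [9]]) 96 :=
  (idx_abcdx h).cardLe (le_abcd h) (by norm_num)

theorem idx_abcdxt {G : Type*} [Group G] {g : ℕ → G} (h : Pres g iv Rels) :
    IdxLe (gen g [[0], [1], [2], [3], [4], [5], [6], [7], [8], [9]]) (gen g [[0], [1], [2], [3], [4], [5], [6], [7], [8], [9], [10], [11]]) 2 :=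
  h.idxLe _ _ CL.E32.Bp.Eabcdxt.covers (by decide +kernel)

theorem le_abcdxt {G : Type*} [Group G] {g : ℕ → G} (h : Pres g iv Rels) :
    CardLe (gen g [[0], [1], [2], [3], [4], [5], [6], [7], [8], [9], [10], [11]]) 192 :=
  (idx_abcdxt h).cardLe (le_abcdx h) (by norm_num)

noncomputable def H_T : ℕ := nat_lit 0x919197bdb2b3a7a6babbb7b6909096bcb3b2a6a7bbbab6b78b8bbf97a5a48e8fb5b48c8d8a8abe96a4a58f8eb4b58d8c848486b9adafa3a1bfbe9293838387b8afada1a3bebf93928181bb86a2a082888c8db4b58080ba87a0a288828d8cb5b47a7a7cb5a9ab9f9d9293bebf79797db4aba99d9f9392bfbe7777b77c9e9c787ebcbdb9b87676b67d9c9e7e78bdbcb8b9707072b1bfbe9495adafaba96f6f73b0bebf9594afada9ab6d6db3728e8fa4a5aaa86e746c6cb2738f8ea5a4a8aa746e6a6a6baebbba8589b3b271756969af6b8288a0a26e74a8aa676768acbabb8985b2b375716666ad688882a2a0746eaaa8646465aab7b67b7f7175b2b36363ab65787e9c9eb0b1aeac616162a8b6b77f7b7571b3b26060a9627e789e9cb1b0acae58585aa59495bebfa1a39f9d57575ba49594bfbea3a19d9f5555a75abcbdb1b09e9c565c545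4a65bbdbcb0b19c9e5c56525253a28589babba7a6595d5151a353b8b9aeac565c9c9e4f4f50a08985bbbaa6a75d594e4ea150b9b8acae5c569e9c4c4c4d9e7b7fb6b7595da6a74b4b9f4db4b5aaa8a4a5a2a049494a9c7f7bb7b65d59a7a648489d4ab5b4a8aaa5a4a0a29797918b4342444547465e5f9696908a4243454446475f5e404041985d5975717f7b89853f3f9941746e8d8c88828f8e9b9bbdbf3c3b73723e3d87869a9abcbe3b3c72733d3e868739393b8fa7a6b3b285897f7b38383c8ea6a7b2b389857b7f37373d8d71755d59b7b6bbba36363e8c7571595db6b7babbbfbf8b9b3736797a39385758bebe8a9a36377a79383958573434953bb1b0bdbc7e7835983333943cb0b1bcbd787e98353232933d5c563598b9b8bdbc3131923e565c9835b8b9bcbdbdbd9b91818032316d6c3433bcbc9a90808131326c6d33342f2f3088a3a1afad95943a992e2e8930aeacb9b83598787e4545b8ba302d6b687c7d96974444b9bb2d30686b7d7c97962c2c2d82a1a3adaf9495993abbbb81447a7937362f2c4f52baba8045797a36372c2f524f2b2b852dacaeb8b998357e78b9b944848a8b777669662e2bb8b845838b8a767766692b2e29292a7e9f9daba93a99949528287f2aaaa8b5b48e8f88824343b4b62a27656287863d3e4242b5b727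2a626586873e3d262627789d9fa9ab993a9594b7b77742838491902926494cb6b676438483909126294c4925257b27a8aab4b58f8e8288b5b5427a3231808163602825b4b4437931328180606325282121227493923a99aba9afad202075223598565caeacb1b05f5fb0b25a5b9697221f6b685e5eb1b35b5a97961f22686b1e1e1f6e9293993aa9abadafb3b36d5e211e616458573938b2b26c5f1e216461575838391d1d711f98355c56acaeb0b1b1b15e706966201d8a8b5554b0b05f6f66691d208b8a54551c1caeaf5053868762657273afaf691c6461211e524f2f2caeae1c6a6c6d63608081514e1b1bacad5350878665627372adad661b61641e214f522c2facac1b676d6c606381804e511a1aaaab4a4d7c7d6b681f22abab631a676a706f4c492926aaaa1a64201d666976774b481919a8a94d4a7d7c686b221fa9a960196a676f70494c2629a8a819611d2069667776484b73736f6c1a191b1c24239b9a7272706d191a1c1b23249a9b1717185c3a9992939f9da3a116165d188c8d746ea2a0a5a44747a4a673723b3c181553504646a5a772733c3b1518505314141556993a93929d9fa1a3a7a755461714494c6f709190a6a6544714174c49706f9091131359158d8c6e74a0a2a4a5a5a54658514e161334336c6da4a447574e5113163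3346d6c1212a2a36b682d304a4d5a5ba3a351124c491714676a8483a2a2125254554b482e2b66691111a0a1686b302d4d4a5b5aa1a14e11494c14176a678384a0a0114f5554484b2b2e696610109e9f6562272a535015189f9f4b104f52585761647a799e9e104c16134e51282560630f0f9c9d62652a27505318159d9d480f524f57586461797a9c9c0f491316514e252863605b5b5754100f11129a9b24235a5a58550f1012119b9a2324878783800e0d9b9a12111b1c868684810d0e9a9b11121c1b7d7d79769a9b0e0d100f191a7c7c7a779b9a0d0e0f101a190c0c98993d3e18153b3c2a2799993f0c38392c2f36371e2198980c4025283334131631320e0e8c92410b221f96977d7c0d0d8d930b411f2297967c7d24248e9496975b5a410b302d23238f9597965a5b0b412d300a0a0b35595d71757b7f858995953423400a262990916f70949433240a4029269190706f9393320d90918384400a14179292310e919084830a40171409093a0b6e748c8d82888e8f8f8f23392e2b3f0954558a8b8e8e24382b2e093f55548b8a8d8d0d3776778a8b201d3f098c8c0e3677768b8a1d20093f0808888986875350272a3b3c89892e082926400a8384676a8888082f333428254e51808107078285878650532a273c3b85852b0726290a4084836a67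8282072c34332528514e818006067e7f7c7d4d4a302d0b417f7f28062c2f3938797a61647e7e06293f092b2e484b76770505787b7d7c4a4d2d30410b7b7b25052f2c38397a79646178780526093f2e2b4b4877763c3c3833060507085e5f46473b3b3934050608075f5e47460404747515183d3e72736562757520046f70676a1714400a7474042160636c6d3132161303036e7118153e3d7372626571711d03706f6a6714170a406e6e031e63606d6c323113166b6b6a6904035f5e080745446868676603045e5f07084445656564635e5f040306054342626261605f5e03040506424302025c5d221f0b415a5b4d4a5d5d160257584f521e2137365c5c0217484b54553f091d20010156591f22410b5b5a4a4d595913015857524f211e3637565601144b485554093f201d53535251020147464445080750504f4e01024647454407084d4d4c4b46470201424306054a4a494847460102434205063e3e363144454243020103043d3d373245444342010204034141403f07080506030401020000353a3e3d15183c3b272a3a3a090039382f2c3736211e3535000a282534331613323130302f2e0c0024231b1c11122d2d2c2b000c23241c1b12112a2a292823240c00191a0f10272726252423000c1a19100f222221201b1c191a0c000e0d1f1f1e1d1c1b1a19000c0d0e1818171611120f100d0e0c00151514131211100f0e0d000c0b0b0a090807060504030201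
noncomputable def H_W : ℕ := nat_lit 0xb83ab73ab619b519b4a7b3a7b297b197b4a5b3a5b295b195b8a3b7a3b693b593ba83b983ba73b973ba63b963ba53b953b8a1b7a1b691b591ba81b981ba71b971ba61b961ba51b95185317531ba11b911083b073b0b8a0b7a0b4a0b3a083a073a0b690b590b290b19061905190ba80b9808b707b70ba704a703a70b97029701970ba60b9608b507b50ba504a503a50b95029501950ba40b9404b303b30ba308a307a30b93069305930b830a8309830b730a7309730b630a6309630b530a530953085307530ba20b9204b103b10ba108a107a10b91069105910b810a8109810b710a7109710b610a6109610b510a5109510851075108310731063105310b110a110911008b007b004b003b00ba008a007a004a003a00b9006900590029001900b800a8009800b700a7009700b600a6009600b500a500950085007500b400a4009400b300a30093008300730063005300b200a2009200b100a100910081007100610051004100310011000b000a0009000800070006000500040003000200010000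
noncomputable def H_I : ℕ := nat_lit 0xbfbe9e9ca7a6aaa8b3b2b5b4b7b6a2a09fae9dacabb9a9b8bbbaa5a4a3b1a1b0afbdadbc9b9a99986b689392959469665c567e784c495d7487865963606e5857758d5053716d6c8c524f7f8873727b514e827a79974b919648905a55845b54835f5e898f62658581808e64617c77707d766f4d8b6a4a8a67474645444342413f402d301f223a2b2e1d2035262914173d25383e283918332c15342f23243b13363c16371c1b1a192a311e2732211211100f0d0e0c0b090a070805060304010200
noncomputable def H_dat : Dat := ⟨nat_lit 192, nat_lit 12, nat_lit 4, [1,0,3,2,5,4,7,6,9,8,11,10], tb (nat_lit 12) (nat_lit 8) (nat_lit 255) H_T,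
  fld (nat_lit 16) (nat_lit 65535) H_W, fld (nat_lit 8) (nat_lit 255) H_I⟩
theorem H_chk : H_dat.Chk Rels :=
  Dat.chk_of (a := 12) (b := 16) (by decide +kernel) rfl (by decide +kernel)
theorem H_good : H_dat.Good Rels := H_chk.good fun _ hg => le_abcdxt hg
/-- the group of the table -/
abbrev H : Type := RG H_dat H_good
theorem H_hom {G : Type*} [Group G] {g : ℕ → G} (hg : Pres g iv Rels) :
    ∃ φ : H →* G, φ.range = gen g [[0], [1], [2], [3], [4], [5], [6], [7], [8], [9], [10], [11]] ∧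
      ∀ w : List ℕ, ltAll 12 w = true → φ (RG.wd H_good w) = ev g w :=
  RG.exists_hom hg fun _ hg' => le_abcdxt hg'

noncomputable def a : H := RG.mk' H_good (nat_lit 1)
noncomputable def b : H := RG.mk' H_good (nat_lit 3)
noncomputable def c : H := RG.mk' H_good (nat_lit 5)
noncomputable def d : H := RG.mk' H_good (nat_lit 7)
noncomputable def x : H := RG.mk' H_good (nat_lit 9)
noncomputable def s : H := RG.mk' H_good (nat_lit 12)
noncomputable def t : H := RG.mk' H_good (nat_lit 11)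
theorem wd_a : RG.wd H_good [0] = a := by decide +kernel
theorem wd_b : RG.wd H_good [2] = b := by decide +kernel
theorem wd_c : RG.wd H_good [4] = c := by decide +kernel
theorem wd_d : RG.wd H_good [6] = d := by decide +kernel
theorem wd_x : RG.wd H_good [8] = x := by decide +kernel
theorem wd_t : RG.wd H_good [10] = t := by decide +kernel

end CL.E32.Bp
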