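/- The group 2^(1+4):3 as a table (generated). -/
import Cfsg.Agent.SPOR.A10.Reg
set_option autoImplicit false
set_option maxRecDepth 100000

namespace CL.E32.X.Ea
open CL.CE CL.K

noncomputable def tT0 : ℕ := nat_lit 0x75a5d0223385
noncomputable def tJ0 : ℕ := nat_lit 0x9150
noncomputable def tD0 : ℕ := nat_lit 0x700a004800000
noncomputable def tT : Tr := (.leaf tT0)
noncomputable def tJ : Tr := (.leaf tJ0)
noncomputable def tD : Tr := (.leaf tD0)

def rels : List (List ℕ) := [[0,1],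
  [1,0],
  [0,0,0,0]]
def subs : List (List ℕ) := []
def iv (a : ℕ) : ℕ := [1,0,2].getD a 0
noncomputable def RR0 : List Rule := [.bwd [1] 0 0 0]
noncomputable def RR1 : List Rule := [.bwd [0] 1 0 0,
  .bwd [1,1,1] 2 1 1]
noncomputable def RR : List (List Rule) := [RR0, RR1]
noncomputable def rowp (j : ℕ) : ℕ := piece tT (nat_lit 3) (nat_lit 7) (nat_lit 3072) (Nat.pred (Nat.shiftLeft 1 (nat_lit 3072))) j
noncomputable def row (u : ℕ) : ℕ := rowOf rowp (nat_lit 8) (nat_lit 255) (nat_lit 12) u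
noncomputable def jrowp (j : ℕ) : ℕ := piece tJ (nat_lit 3) (nat_lit 7) (nat_lit 4096) (Nat.pred (Nat.shiftLeft 1 (nat_lit 4096))) j
noncomputable def jrow (u : ℕ) : ℕ := rowOf jrowp (nat_lit 10) (nat_lit 1023) (nat_lit 4) u
noncomputable def drowp (j : ℕ) : ℕ := piece tD (nat_lit 3) (nat_lit 7) (nat_lit 3328) (Nat.pred (Nat.shiftLeft 1 (nat_lit 3328))) j
noncomputable def drow (u : ℕ) : ℕ := rowOf drowp (nat_lit 8) (nat_lit 255) (nat_lit 13) u
noncomputable def cert : PCert := ⟨(nat_lit 2), (nat_lit 2), (nat_lit 3), (nat_lit 6), (nat_lit 63), (nat_lit 62), (nat_lit 4), (nat_lit 3), (nat_lit 3), (nat_lit 2), (nat_lit 3), (nat_lit 2), (nat_lit 3), (nat_lit 8191), (nat_lit 0), row, jrow, drow, RR⟩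
theorem params : cert.paramsOK = true := by decide +kernel
theorem rules : rulesOK rels subs iv cert.L cert.LL cert.RR = true := by decide +kernel
theorem blk0 : cert.alive (nat_lit 0) (nat_lit 1) (nat_lit 4) = 0 := by decide +kernel
theorem up0 : cert.Upto 0 := PCert.upto_zero _
theorem up1 : cert.Upto 4 := up0.alive params blk0 (by decide)

theorem covers {G : Type*} [Group G] {g : ℕ → G} {H : Subgroup G}
    (h : Sat g H 2 iv rels subs) : Covers g 2 H 4 :=
  PCert.covers (p := cert) params rules (by decide +kernel) up1 h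

end CL.E32.X.Ea

namespace CL.E32.X.Eab
open CL.CE CL.K

noncomputable def tT0 : ℕ := nat_lit 0x5222f3b482
noncomputable def tJ0 : ℕ := nat_lit 0x5615
noncomputable def tD0 : ℕ := nat_lit 0x101800
noncomputable def tT : Tr := (.leaf tT0)
noncomputable def tJ : Tr := (.leaf tJ0)
noncomputable def tD : Tr := (.leaf tD0)

def rels : List (List ℕ) := [[0,1],
  [1,0],
  [2,3],
  [3,2],
  [0,0,0,0],
  [0,0,3,3],
  [2,0,3,0]]
def subs : List (List ℕ) := [[0],
  [1]]
def iv (a : ℕ) : ℕ := [1,0,3,2,4].getD a 0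
noncomputable def RR0 : List Rule := [.sub [] [] 0 0,
  .bwd [2,0,3] 6 3 0]
noncomputable def RR1 : List Rule := [.bwd [0] 1 0 0]
noncomputable def RR2 : List Rule := [.bwd [3] 2 0 0]
noncomputable def RR3 : List Rule := [.bwd [0,0,3] 5 3 0]
noncomputable def RR : List (List Rule) := [RR0, RR1, RR2, RR3]
noncomputable def rowp (j : ℕ) : ℕ := piece tT (nat_lit 3) (nat_lit 7) (nat_lit 2560) (Nat.pred (Nat.shiftLeft 1 (nat_lit 2560))) j
noncomputable def row (u : ℕ) : ℕ := rowOf rowp (nat_lit 7) (nat_lit 127) (nat_lit 20) u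
noncomputable def jrowp (j : ℕ) : ℕ := piece tJ (nat_lit 3) (nat_lit 7) (nat_lit 4096) (Nat.pred (Nat.shiftLeft 1 (nat_lit 4096))) j
noncomputable def jrow (u : ℕ) : ℕ := rowOf jrowp (nat_lit 9) (nat_lit 511) (nat_lit 8) u
noncomputable def drowp (j : ℕ) : ℕ := piece tD (nat_lit 3) (nat_lit 7) (nat_lit 2816) (Nat.pred (Nat.shiftLeft 1 (nat_lit 2816))) j
noncomputable def drow (u : ℕ) : ℕ := rowOf drowp (nat_lit 8) (nat_lit 255) (nat_lit 11) u
noncomputable def cert : PCert := ⟨(nat_lit 4), (nat_lit 4), (nat_lit 1), (nat_lit 5), (nat_lit 31), (nat_lit 30), (nat_lit 2), (nat_lit 1), (nat_lit 1), (nat_lit 2), (nat_lit 3), (nat_lit 2), (nat_lit 3), (nat_lit 2047), (nat_lit 0), row, jrow, drow, RR⟩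
theorem params : cert.paramsOK = true := by decide +kernel
theorem rules : rulesOK rels subs iv cert.L cert.LL cert.RR = true := by decide +kernel
theorem blk0 : cert.alive (nat_lit 0) (nat_lit 1) (nat_lit 2) = 0 := by decide +kernel
theorem up0 : cert.Upto 0 := PCert.upto_zero _
theorem up1 : cert.Upto 2 := up0.alive params blk0 (by decide)

theorem covers {G : Type*} [Group G] {g : ℕ → G} {H : Subgroup G}
    (h : Sat g H 4 iv rels subs) : Covers g 4 H 2 :=
  PCert.covers (p := cert) params rules (by decide +kernel) up1 h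

end CL.E32.X.Eab

namespace CL.E32.X.Eabc
open CL.CE CL.K

noncomputable def tT0 : ℕ := nat_lit 0x73337acd7141882
noncomputable def tJ0 : ℕ := nat_lit 0x566155
noncomputable def tD0 : ℕ := nat_lit 0x102800
noncomputable def tT : Tr := (.leaf tT0)
noncomputable def tJ : Tr := (.leaf tJ0)
noncomputable def tD : Tr := (.leaf tD0)

def rels : List (List ℕ) := [[0,1],
  [1,0],
  [2,3],
  [3,2],
  [4,5],
  [5,4],
  [0,0,0,0],
  [0,0,3,3],
  [2,0,3,0],
  [0,0,5,5],
  [0,4,1,5],
  [2,4,3,5]]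
def subs : List (List ℕ) := [[0],
  [1],
  [2],
  [3]]
def iv (a : ℕ) : ℕ := [1,0,3,2,5,4,6].getD a 0
noncomputable def RR0 : List Rule := [.sub [] [] 0 0,
  .bwd [4,1,5] 10 0 0]
noncomputable def RR1 : List Rule := [.bwd [0] 1 0 0]
noncomputable def RR2 : List Rule := [.sub [] [] 2 0,
  .bwd [4,3,5] 11 0 0]
noncomputable def RR3 : List Rule := [.bwd [2] 3 0 0]
noncomputable def RR4 : List Rule := [.bwd [5] 4 0 0]
noncomputable def RR5 : List Rule := [.bwd [0,0,5] 9 3 0]
noncomputable def RR : List (List Rule) := [RR0, RR1, RR2, RR3, RR4, RR5]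
noncomputable def rowp (j : ℕ) : ℕ := piece tT (nat_lit 3) (nat_lit 7) (nat_lit 3840) (Nat.pred (Nat.shiftLeft 1 (nat_lit 3840))) j
noncomputable def row (u : ℕ) : ℕ := rowOf rowp (nat_lit 7) (nat_lit 127) (nat_lit 30) u
noncomputable def jrowp (j : ℕ) : ℕ := piece tJ (nat_lit 3) (nat_lit 7) (nat_lit 3072) (Nat.pred (Nat.shiftLeft 1 (nat_lit 3072))) j
noncomputable def jrow (u : ℕ) : ℕ := rowOf jrowp (nat_lit 8) (nat_lit 255) (nat_lit 12) u
noncomputable def drowp (j : ℕ) : ℕ := piece tD (nat_lit 3) (nat_lit 7) (nat_lit 2816) (Nat.pred (Nat.shiftLeft 1 (nat_lit 2816))) j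
noncomputable def drow (u : ℕ) : ℕ := rowOf drowp (nat_lit 8) (nat_lit 255) (nat_lit 11) u
noncomputable def cert : PCert := ⟨(nat_lit 6), (nat_lit 6), (nat_lit 1), (nat_lit 5), (nat_lit 31), (nat_lit 30), (nat_lit 2), (nat_lit 1), (nat_lit 1), (nat_lit 2), (nat_lit 3), (nat_lit 2), (nat_lit 3), (nat_lit 2047), (nat_lit 0), row, jrow, drow, RR⟩
theorem params : cert.paramsOK = true := by decide +kernel
theorem rules : rulesOK rels subs iv cert.L cert.LL cert.RR = true := by decide +kernel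
theorem blk0 : cert.alive (nat_lit 0) (nat_lit 1) (nat_lit 2) = 0 := by decide +kernel
theorem up0 : cert.Upto 0 := PCert.upto_zero _
theorem up1 : cert.Upto 2 := up0.alive params blk0 (by decide)

theorem covers {G : Type*} [Group G] {g : ℕ → G} {H : Subgroup G}
    (h : Sat g H 6 iv rels subs) : Covers g 6 H 2 :=
  PCert.covers (p := cert) params rules (by decide +kernel) up1 h

end CL.E32.X.Eabc

namespace CL.E32.X.Eabcd
open CL.CE CL.K

noncomputable def tT0 : ℕ := nat_lit 0x49065785f75b3d530a206102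
noncomputable def tJ0 : ℕ := nat_lit 0x56661555
noncomputable def tD0 : ℕ := nat_lit 0x103800
noncomputable def tT : Tr := (.leaf tT0)
noncomputable def tJ : Tr := (.leaf tJ0)
noncomputable def tD : Tr := (.leaf tD0)

def rels : List (List ℕ) := [[0,1],
  [1,0],
  [2,3],
  [3,2],
  [4,5],
  [5,4],
  [6,7],
  [7,6],
  [0,0,0,0],
  [0,0,3,3],
  [2,0,3,0],
  [0,0,5,5],
  [0,0,7,7],
  [6,4,7,4],
  [0,4,1,5],
  [0,6,1,7],
  [2,4,3,5],
  [2,6,3,7]]
def subs : List (List ℕ) := [[0],
  [1],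
  [2],
  [3],
  [4],
  [5]]
def iv (a : ℕ) : ℕ := [1,0,3,2,5,4,7,6,8].getD a 0
noncomputable def RR0 : List Rule := [.sub [] [] 0 0,
  .bwd [6,1,7] 15 0 0]
noncomputable def RR1 : List Rule := [.bwd [0] 1 0 0]
noncomputable def RR2 : List Rule := [.sub [] [] 2 0,
  .bwd [6,3,7] 17 0 0]
noncomputable def RR3 : List Rule := [.bwd [2] 3 0 0]
noncomputable def RR4 : List Rule := [.sub [] [] 4 0,
  .bwd [6,4,7] 13 3 0]
noncomputable def RR5 : List Rule := [.bwd [4] 5 0 0]
noncomputable def RR6 : List Rule := [.bwd [7] 6 0 0]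
noncomputable def RR7 : List Rule := [.bwd [0,0,7] 12 3 0]
noncomputable def RR : List (List Rule) := [RR0, RR1, RR2, RR3, RR4, RR5, RR6, RR7]
noncomputable def rowp (j : ℕ) : ℕ := piece tT (nat_lit 3) (nat_lit 7) (nat_lit 3072) (Nat.pred (Nat.shiftLeft 1 (nat_lit 3072))) j
noncomputable def row (u : ℕ) : ℕ := rowOf rowp (nat_lit 6) (nat_lit 63) (nat_lit 48) u
noncomputable def jrowp (j : ℕ) : ℕ := piece tJ (nat_lit 3) (nat_lit 7) (nat_lit 4096) (Nat.pred (Nat.shiftLeft 1 (nat_lit 4096))) j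
noncomputable def jrow (u : ℕ) : ℕ := rowOf jrowp (nat_lit 8) (nat_lit 255) (nat_lit 16) u
noncomputable def drowp (j : ℕ) : ℕ := piece tD (nat_lit 3) (nat_lit 7) (nat_lit 2816) (Nat.pred (Nat.shiftLeft 1 (nat_lit 2816))) j
noncomputable def drow (u : ℕ) : ℕ := rowOf drowp (nat_lit 8) (nat_lit 255) (nat_lit 11) u
noncomputable def cert : PCert := ⟨(nat_lit 8), (nat_lit 8), (nat_lit 1), (nat_lit 6), (nat_lit 63), (nat_lit 62), (nat_lit 2), (nat_lit 1), (nat_lit 1), (nat_lit 2), (nat_lit 3), (nat_lit 2), (nat_lit 3), (nat_lit 2047), (nat_lit 0), row, jrow, drow, RR⟩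
theorem params : cert.paramsOK = true := by decide +kernel
theorem rules : rulesOK rels subs iv cert.L cert.LL cert.RR = true := by decide +kernel
theorem blk0 : cert.alive (nat_lit 0) (nat_lit 1) (nat_lit 2) = 0 := by decide +kernel
theorem up0 : cert.Upto 0 := PCert.upto_zero _
theorem up1 : cert.Upto 2 := up0.alive params blk0 (by decide)

theorem covers {G : Type*} [Group G] {g : ℕ → G} {H : Subgroup G}
    (h : Sat g H 8 iv rels subs) : Covers g 8 H 2 :=
  PCert.covers (p := cert) params rules (by decide +kernel) up1 h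

end CL.E32.X.Eabcd

namespace CL.E32.X.Eabcdx
open CL.CE CL.K

noncomputable def tT0 : ℕ := nat_lit 0x28d4f5db566e5bb15e513a4c572d60bd62b6d254070c142030404
noncomputable def tJ0 : ℕ := nat_lit 0x555554555546666
noncomputable def tD0 : ℕ := nat_lit 0x908408000
noncomputable def tT : Tr := (.leaf tT0)
noncomputable def tJ : Tr := (.leaf tJ0)
noncomputable def tD : Tr := (.leaf tD0)

def rels : List (List ℕ) := [[0,1],
  [1,0],
  [2,3],
  [3,2],
  [4,5],
  [5,4],
  [6,7],
  [7,6],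
  [8,9],
  [9,8],
  [0,0,0,0],
  [0,0,3,3],
  [2,0,3,0],
  [0,0,5,5],
  [0,0,7,7],
  [6,4,7,4],
  [0,4,1,5],
  [0,6,1,7],
  [2,4,3,5],
  [2,6,3,7],
  [8,8,8],
  [8,0,9,3],
  [8,2,9,3,1],
  [8,4,9,7],
  [8,6,9,7,5]]
def subs : List (List ℕ) := [[0],
  [1],
  [2],
  [3],
  [4],
  [5],
  [6],
  [7]]
def iv (a : ℕ) : ℕ := [1,0,3,2,5,4,7,6,9,8,10].getD a 0
noncomputable def RR0 : List Rule := [.bwd [9,3,8] 21 1 0,
  .sub [] [] 0 0]
noncomputable def RR1 : List Rule := [.bwd [0] 1 0 0]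
noncomputable def RR2 : List Rule := [.bwd [9,3,1,8] 22 1 0,
  .sub [] [] 2 0]
noncomputable def RR3 : List Rule := [.bwd [2] 3 0 0]
noncomputable def RR4 : List Rule := [.bwd [9,7,8] 23 1 0,
  .sub [] [] 4 0]
noncomputable def RR5 : List Rule := [.bwd [4] 5 0 0]
noncomputable def RR6 : List Rule := [.bwd [9,7,5,8] 24 1 0,
  .sub [] [] 6 0]
noncomputable def RR7 : List Rule := [.bwd [6] 7 0 0]
noncomputable def RR8 : List Rule := [.bwd [8,8] 20 1 0]
noncomputable def RR9 : List Rule := [.bwd [8] 9 0 0]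
noncomputable def RR : List (List Rule) := [RR0, RR1, RR2, RR3, RR4, RR5, RR6, RR7, RR8, RR9]
noncomputable def rowp (j : ℕ) : ℕ := piece tT (nat_lit 3) (nat_lit 7) (nat_lit 2240) (Nat.pred (Nat.shiftLeft 1 (nat_lit 2240))) j
noncomputable def row (u : ℕ) : ℕ := rowOf rowp (nat_lit 5) (nat_lit 31) (nat_lit 70) u
noncomputable def jrowp (j : ℕ) : ℕ := piece tJ (nat_lit 3) (nat_lit 7) (nat_lit 2560) (Nat.pred (Nat.shiftLeft 1 (nat_lit 2560))) j
noncomputable def jrow (u : ℕ) : ℕ := rowOf jrowp (nat_lit 7) (nat_lit 127) (nat_lit 20) u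
noncomputable def drowp (j : ℕ) : ℕ := piece tD (nat_lit 3) (nat_lit 7) (nat_lit 3072) (Nat.pred (Nat.shiftLeft 1 (nat_lit 3072))) j
noncomputable def drow (u : ℕ) : ℕ := rowOf drowp (nat_lit 8) (nat_lit 255) (nat_lit 12) u
noncomputable def cert : PCert := ⟨(nat_lit 10), (nat_lit 10), (nat_lit 3), (nat_lit 7), (nat_lit 127), (nat_lit 126), (nat_lit 3), (nat_lit 2), (nat_lit 2), (nat_lit 2), (nat_lit 3), (nat_lit 2), (nat_lit 3), (nat_lit 4095), (nat_lit 0), row, jrow, drow, RR⟩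
theorem params : cert.paramsOK = true := by decide +kernel
theorem rules : rulesOK rels subs iv cert.L cert.LL cert.RR = true := by decide +kernel
theorem blk0 : cert.alive (nat_lit 0) (nat_lit 1) (nat_lit 3) = 0 := by decide +kernel
theorem up0 : cert.Upto 0 := PCert.upto_zero _
theorem up1 : cert.Upto 3 := up0.alive params blk0 (by decide)

theorem covers {G : Type*} [Group G] {g : ℕ → G} {H : Subgroup G}
    (h : Sat g H 10 iv rels subs) : Covers g 10 H 3 :=
  PCert.covers (p := cert) params rules (by decide +kernel) up1 h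

end CL.E32.X.Eabcdx

namespace CL.E32.X
open CL.CE CL.K CL.Reg

def iv (a : ℕ) : ℕ := [1,0,3,2,5,4,7,6,9,8].getD a a
def Rels : List (List ℕ) := [[0,1], [1,0], [2,3], [3,2], [4,5], [5,4], [6,7], [7,6], [8,9], [9,8], [0,0,0,0], [0,0,3,3], [2,0,3,0], [0,0,5,5], [0,0,7,7], [6,4,7,4], [0,4,1,5], [0,6,1,7], [2,4,3,5], [2,6,3,7], [8,8,8], [8,0,9,3], [8,2,9,3,1], [8,4,9,7], [8,6,9,7,5]]

theorem idx_a {G : Type*} [Group G] {g : ℕ → G} (h : Pres g iv Rels) :
    IdxLe (gen g []) (gen g [[0], [1]]) 4 :=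
  h.idxLe _ _ CL.E32.X.Ea.covers (by decide +kernel)

theorem le_a {G : Type*} [Group G] {g : ℕ → G} (h : Pres g iv Rels) :
    CardLe (gen g [[0], [1]]) 4 :=
  (idx_a h).cardLe (cardLe_nil g) (by norm_num)

theorem idx_ab {G : Type*} [Group G] {g : ℕ → G} (h : Pres g iv Rels) :
    IdxLe (gen g [[0], [1]]) (gen g [[0], [1], [2], [3]]) 2 :=
  h.idxLe _ _ CL.E32.X.Eab.covers (by decide +kernel)

theorem le_ab {G : Type*} [Group G] {g : ℕ → G} (h : Pres g iv Rels) :
    CardLe (gen g [[0], [1], [2], [3]]) 8 :=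
  (idx_ab h).cardLe (le_a h) (by norm_num)

theorem idx_abc {G : Type*} [Group G] {g : ℕ → G} (h : Pres g iv Rels) :
    IdxLe (gen g [[0], [1], [2], [3]]) (gen g [[0], [1], [2], [3], [4], [5]]) 2 :=
  h.idxLe _ _ CL.E32.X.Eabc.covers (by decide +kernel)

theorem le_abc {G : Type*} [Group G] {g : ℕ → G} (h : Pres g iv Rels) :
    CardLe (gen g [[0], [1], [2], [3], [4], [5]]) 16 :=
  (idx_abc h).cardLe (le_ab h) (by norm_num)

theorem idx_abcd {G : Type*} [Group G] {g : ℕ → G} (h : Pres g iv Rels) :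
    IdxLe (gen g [[0], [1], [2], [3], [4], [5]]) (gen g [[0], [1], [2], [3], [4], [5], [6], [7]]) 2 :=
  h.idxLe _ _ CL.E32.X.Eabcd.covers (by decide +kernel)

theorem le_abcd {G : Type*} [Group G] {g : ℕ → G} (h : Pres g iv Rels) :
    CardLe (gen g [[0], [1], [2], [3], [4], [5], [6], [7]]) 32 :=
  (idx_abcd h).cardLe (le_abc h) (by norm_num)

theorem idx_abcdx {G : Type*} [Group G] {g : ℕ → G} (h : Pres g iv Rels) :
    IdxLe (gen g [[0], [1], [2], [3], [4], [5], [6], [7]]) (gen g [[0], [1], [2], [3], [4], [5], [6], [7], [8], [9]]) 3 :=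
  h.idxLe _ _ CL.E32.X.Eabcdx.covers (by decide +kernel)

theorem le_abcdx {G : Type*} [Group G] {g : ℕ → G} (h : Pres g iv Rels) :
    CardLe (gen g [[0], [1], [2], [3], [4], [5], [6], [7], [8], [9]]) 96 :=
  (idx_abcdx h).cardLe (le_abcd h) (by norm_num)

noncomputable def H_T : ℕ := nat_lit 0xbb6d9b268d5bb68916e5a64cdab46cde2c4b77d6aca9557ae850ed5e58b6ad45cbe1c2bf76bd652a27ce56aaf5cad5d4299d3d52baed2ad45ab13a57afeb35a95562d4a9dfbd6966d5ba74a64a4c91ad8b76a9539531226a6cac59bb711a172ee933b362e5d428ddb965554a8ad5e44644819d450a6bd68d210229f10e9b8f261c25eba74536764c7850d72f894664a386ad5b83022d09530d1cb76a04198664c73a6dfbd4e94ccd9d3e446ad5df3c94623c93675ebf4a9cc4b9f3a348af59e3e905e5cda341db94684bc9386a54ca54dd388c5a6cba145cbb428cb47347264aa749c3aa138b963064f9ebf7a8cf2c5cc983c7ef5f82d8a9372ee851bb720372655db9a342e5d6d0df3c28495aa9d3dbc278f891454ae7ce7c45db92a4e5cdb3608bf8105d384c9254c7841cbb26566cbb16483d8301c3a489a64a743debf870a3c9ab507bb2849e3e4482348703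9fbd850e4c7a9547392451f3c408a446850078e2046f5f3e7a1c11c3c890bf78f1fb15868cbf788903066cd71836f5f2044c98a94af5f1a3078e2c5ead3bf7860d1c3cb96602d72f4a9d62d36745b1408952b2451429567988a428ee5da14551f14c51a1bb728d05232e5db16588a265540dbb72cd814c4a933cbd3246026041b56cfae48984b08302dda18b6953b56ce1a60246aca74adda34704b04c211a1622ac59973442754ad12078fab57481d0a314c6cd89b2c3a556a90227cf2bd644192a75ebaa558f24323602522670ea95340153a55cbead4931c2a112c132474e29d25ca83050e222456cdd7ab0a184078b11bb638128519734a93622821d8d2274f50a4a12340e8d09b2c99514c419b911a7ce52a09149b302038b104076ad25ca06122450e21a359322245080c30566ca3c68b101840a19933280a1437afcd9d5ab011570ea0416024d1c24061c27ef4e9b58b409374e20c012c0e1a7ef81016ed9a35101debc0209b376ad038876e9b3704059330c15cb86ed808266c828658a1a3564cc10106116a96ad19b2020820362c03880a1818402084805eb93a55ab0e9b002912056a8a1252a13a61600f9e30648114a9000b3c7cc9822411a23c7c5802c5c70f4280f9e002cb961e38e9c3064b17160068c3668c982e5800b1834a94204470f183458026488901e3868c002c509101c305080c101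
noncomputable def H_W : ℕ := nat_lit 0x85317531083a073a0619051904a703a70297019704a503a50295019508a307a3069305930a8309830a7309730a6309630a5309530853075308a107a1069105910a8109810a7109710a6109610a5109510851075108310731063105310a110911008a007a004a003a006900590029001900a8009800a7009700a6009600a500950085007500a4009400a30093008300730063005300a2009200a100910081007100610051004100310011000a0009000800070006000500040003000200010000
noncomputable def H_I : ℕ := nat_lit 0xbf7a64a76e6446870a7ce7ef5f3cab51d5d71720d981622c4af5a4c7a746950b736d4b6ed9ab466c98314898d1c428c99540b912f54955a73c7c92c28b4c982e5941b52748901e3860d162450710143030804100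
noncomputable def H_dat : Dat := ⟨nat_lit 96, nat_lit 10, nat_lit 4, [1,0,3,2,5,4,7,6,9,8], tb (nat_lit 10) (nat_lit 7) (nat_lit 127) H_T,
  fld (nat_lit 16) (nat_lit 65535) H_W, fld (nat_lit 7) (nat_lit 127) H_I⟩
theorem H_chk : H_dat.Chk Rels :=
  Dat.chk_of (a := 8) (b := 12) (by decide +kernel) rfl (by decide +kernel)
theorem H_good : H_dat.Good Rels := H_chk.good fun _ hg => le_abcdx hg
/-- the group of the table -/
abbrev H : Type := RG H_dat H_good
theorem H_hom {G : Type*} [Group G] {g : ℕ → G} (hg : Pres g iv Rels) :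
    ∃ φ : H →* G, φ.range = gen g [[0], [1], [2], [3], [4], [5], [6], [7], [8], [9]] ∧
      ∀ w : List ℕ, ltAll 10 w = true → φ (RG.wd H_good w) = ev g w :=
  RG.exists_hom hg fun _ hg' => le_abcdx hg'

noncomputable def a : H := RG.mk' H_good (nat_lit 1)
noncomputable def b : H := RG.mk' H_good (nat_lit 3)
noncomputable def c : H := RG.mk' H_good (nat_lit 5)
noncomputable def d : H := RG.mk' H_good (nat_lit 7)
noncomputable def x : H := RG.mk' H_good (nat_lit 9)
noncomputable def s : H := RG.mk' H_good (nat_lit 11)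
theorem wd_a : RG.wd H_good [0] = a := by decide +kernel
theorem wd_b : RG.wd H_good [2] = b := by decide +kernel
theorem wd_c : RG.wd H_good [4] = c := by decide +kernel
theorem wd_d : RG.wd H_good [6] = d := by decide +kernel
theorem wd_x : RG.wd H_good [8] = x := by decide +kernel

end CL.E32.X
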