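/- The symmetric group of degree 5 as a table (generated). -/
import Cfsg.Agent.SPOR.A10.Reg
set_option autoImplicit false
set_option maxRecDepth 100000

namespace CL.E32.S5.Ea
open CL.CE CL.K

noncomputable def tT0 : ℕ := nat_lit 0x23
noncomputable def tJ0 : ℕ := nat_lit 0x2
noncomputable def tD0 : ℕ := nat_lit 0x100000
noncomputable def tT : Tr := (.leaf tT0)
noncomputable def tJ : Tr := (.leaf tJ0)
noncomputable def tD : Tr := (.leaf tD0)

def rels : List (List ℕ) := [[0,0]]
def subs : List (List ℕ) := []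
def iv (a : ℕ) : ℕ := [0,1].getD a 0
noncomputable def RR0 : List Rule := [.bwd [0] 0 0 0]
noncomputable def RR : List (List Rule) := [RR0]
noncomputable def rowp (j : ℕ) : ℕ := piece tT (nat_lit 3) (nat_lit 7) (nat_lit 3072) (Nat.pred (Nat.shiftLeft 1 (nat_lit 3072))) j
noncomputable def row (u : ℕ) : ℕ := rowOf rowp (nat_lit 10) (nat_lit 1023) (nat_lit 3) u
noncomputable def jrowp (j : ℕ) : ℕ := piece tJ (nat_lit 3) (nat_lit 7) (nat_lit 4096) (Nat.pred (Nat.shiftLeft 1 (nat_lit 4096))) j
noncomputable def jrow (u : ℕ) : ℕ := rowOf jrowp (nat_lit 12) (nat_lit 4095) (nat_lit 1) u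
noncomputable def drowp (j : ℕ) : ℕ := piece tD (nat_lit 3) (nat_lit 7) (nat_lit 2816) (Nat.pred (Nat.shiftLeft 1 (nat_lit 2816))) j
noncomputable def drow (u : ℕ) : ℕ := rowOf drowp (nat_lit 8) (nat_lit 255) (nat_lit 11) u
noncomputable def cert : PCert := ⟨(nat_lit 1), (nat_lit 1), (nat_lit 1), (nat_lit 3), (nat_lit 7), (nat_lit 6), (nat_lit 2), (nat_lit 1), (nat_lit 1), (nat_lit 1), (nat_lit 1), (nat_lit 1), (nat_lit 1), (nat_lit 2047), (nat_lit 0), row, jrow, drow, RR⟩
theorem params : cert.paramsOK = true := by decide +kernel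
theorem rules : rulesOK rels subs iv cert.L cert.LL cert.RR = true := by decide +kernel
theorem blk0 : cert.alive (nat_lit 0) (nat_lit 1) (nat_lit 2) = 0 := by decide +kernel
theorem up0 : cert.Upto 0 := PCert.upto_zero _
theorem up1 : cert.Upto 2 := up0.alive params blk0 (by decide)

theorem covers {G : Type*} [Group G] {g : ℕ → G} {H : Subgroup G}
    (h : Sat g H 1 iv rels subs) : Covers g 1 H 2 :=
  PCert.covers (p := cert) params rules (by decide +kernel) up1 h

end CL.E32.S5.Ea

namespace CL.E32.S5.Eab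
open CL.CE CL.K

noncomputable def tT0 : ℕ := nat_lit 0x35564924
noncomputable def tJ0 : ℕ := nat_lit 0x942
noncomputable def tD0 : ℕ := nat_lit 0x900401000
noncomputable def tT : Tr := (.leaf tT0)
noncomputable def tJ : Tr := (.leaf tJ0)
noncomputable def tD : Tr := (.leaf tD0)

def rels : List (List ℕ) := [[0,0],
  [1,1],
  [0,1,0,1,0,1]]
def subs : List (List ℕ) := [[0]]
def iv (a : ℕ) : ℕ := [0,1,2].getD a 0
noncomputable def RR0 : List Rule := [.bwd [0] 0 0 0,
  .sub [] [] 0 0]
noncomputable def RR1 : List Rule := [.bwd [1] 1 0 0,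
  .bwd [0,1,0,1,0] 2 1 0]
noncomputable def RR : List (List Rule) := [RR0, RR1]
noncomputable def rowp (j : ℕ) : ℕ := piece tT (nat_lit 3) (nat_lit 7) (nat_lit 2560) (Nat.pred (Nat.shiftLeft 1 (nat_lit 2560))) j
noncomputable def row (u : ℕ) : ℕ := rowOf rowp (nat_lit 8) (nat_lit 255) (nat_lit 10) u
noncomputable def jrowp (j : ℕ) : ℕ := piece tJ (nat_lit 3) (nat_lit 7) (nat_lit 4096) (Nat.pred (Nat.shiftLeft 1 (nat_lit 4096))) j
noncomputable def jrow (u : ℕ) : ℕ := rowOf jrowp (nat_lit 10) (nat_lit 1023) (nat_lit 4) u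
noncomputable def drowp (j : ℕ) : ℕ := piece tD (nat_lit 3) (nat_lit 7) (nat_lit 3072) (Nat.pred (Nat.shiftLeft 1 (nat_lit 3072))) j
noncomputable def drow (u : ℕ) : ℕ := rowOf drowp (nat_lit 8) (nat_lit 255) (nat_lit 12) u
noncomputable def cert : PCert := ⟨(nat_lit 2), (nat_lit 2), (nat_lit 3), (nat_lit 5), (nat_lit 31), (nat_lit 30), (nat_lit 3), (nat_lit 2), (nat_lit 2), (nat_lit 2), (nat_lit 3), (nat_lit 2), (nat_lit 3), (nat_lit 4095), (nat_lit 0), row, jrow, drow, RR⟩
theorem params : cert.paramsOK = true := by decide +kernel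
theorem rules : rulesOK rels subs iv cert.L cert.LL cert.RR = true := by decide +kernel
theorem blk0 : cert.alive (nat_lit 0) (nat_lit 1) (nat_lit 3) = 0 := by decide +kernel
theorem up0 : cert.Upto 0 := PCert.upto_zero _
theorem up1 : cert.Upto 3 := up0.alive params blk0 (by decide)

theorem covers {G : Type*} [Group G] {g : ℕ → G} {H : Subgroup G}
    (h : Sat g H 2 iv rels subs) : Covers g 2 H 3 :=
  PCert.covers (p := cert) params rules (by decide +kernel) up1 h

end CL.E32.S5.Eab

namespace CL.E32.S5.Eabc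
open CL.CE CL.K

noncomputable def tT0 : ℕ := nat_lit 0xbf3aa276741a54d204
noncomputable def tJ0 : ℕ := nat_lit 0xf644ca
noncomputable def tD0 : ℕ := nat_lit 0x7002404804000
noncomputable def tT : Tr := (.leaf tT0)
noncomputable def tJ : Tr := (.leaf tJ0)
noncomputable def tD : Tr := (.leaf tD0)

def rels : List (List ℕ) := [[0,0],
  [1,1],
  [2,2],
  [0,1,0,1,0,1],
  [1,2,1,2,1,2],
  [0,2,0,2]]
def subs : List (List ℕ) := [[0],
  [1]]
def iv (a : ℕ) : ℕ := [0,1,2,3].getD a 0
noncomputable def RR0 : List Rule := [.bwd [0] 0 0 0,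
  .sub [] [] 0 0,
  .bwd [2,0,2] 5 2 0]
noncomputable def RR1 : List Rule := [.bwd [1] 1 0 0,
  .sub [] [] 1 0,
  .bwd [0,1,0,1,0] 3 1 0]
noncomputable def RR2 : List Rule := [.bwd [2] 2 0 0,
  .bwd [1,2,1,2,1] 4 1 0,
  .bwd [0,2,0] 5 1 0]
noncomputable def RR : List (List Rule) := [RR0, RR1, RR2]
noncomputable def rowp (j : ℕ) : ℕ := piece tT (nat_lit 3) (nat_lit 7) (nat_lit 2304) (Nat.pred (Nat.shiftLeft 1 (nat_lit 2304))) j
noncomputable def row (u : ℕ) : ℕ := rowOf rowp (nat_lit 7) (nat_lit 127) (nat_lit 18) u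
noncomputable def jrowp (j : ℕ) : ℕ := piece tJ (nat_lit 3) (nat_lit 7) (nat_lit 3072) (Nat.pred (Nat.shiftLeft 1 (nat_lit 3072))) j
noncomputable def jrow (u : ℕ) : ℕ := rowOf jrowp (nat_lit 9) (nat_lit 511) (nat_lit 6) u
noncomputable def drowp (j : ℕ) : ℕ := piece tD (nat_lit 3) (nat_lit 7) (nat_lit 3328) (Nat.pred (Nat.shiftLeft 1 (nat_lit 3328))) j
noncomputable def drow (u : ℕ) : ℕ := rowOf drowp (nat_lit 8) (nat_lit 255) (nat_lit 13) u
noncomputable def cert : PCert := ⟨(nat_lit 3), (nat_lit 3), (nat_lit 3), (nat_lit 6), (nat_lit 63), (nat_lit 62), (nat_lit 4), (nat_lit 3), (nat_lit 3), (nat_lit 2), (nat_lit 3), (nat_lit 2), (nat_lit 3), (nat_lit 8191), (nat_lit 0), row, jrow, drow, RR⟩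
theorem params : cert.paramsOK = true := by decide +kernel
theorem rules : rulesOK rels subs iv cert.L cert.LL cert.RR = true := by decide +kernel
theorem blk0 : cert.alive (nat_lit 0) (nat_lit 1) (nat_lit 4) = 0 := by decide +kernel
theorem up0 : cert.Upto 0 := PCert.upto_zero _
theorem up1 : cert.Upto 4 := up0.alive params blk0 (by decide)

theorem covers {G : Type*} [Group G] {g : ℕ → G} {H : Subgroup G}
    (h : Sat g H 3 iv rels subs) : Covers g 3 H 4 :=
  PCert.covers (p := cert) params rules (by decide +kernel) up1 h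

end CL.E32.S5.Eabc

namespace CL.E32.S5.Eabcd
open CL.CE CL.K

noncomputable def tT0 : ℕ := nat_lit 0x9c94a48b737b6a845a4963522842393121181008
noncomputable def tJ0 : ℕ := nat_lit 0x9216c844421b092
noncomputable def tD0 : ℕ := nat_lit 0x23006805102200c000
noncomputable def tT : Tr := (.leaf tT0)
noncomputable def tJ : Tr := (.leaf tJ0)
noncomputable def tD : Tr := (.leaf tD0)

def rels : List (List ℕ) := [[0,0],
  [1,1],
  [2,2],
  [3,3],
  [0,1,0,1,0,1],
  [1,2,1,2,1,2],
  [2,3,2,3,2,3],
  [0,2,0,2],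
  [0,3,0,3],
  [1,3,1,3]]
def subs : List (List ℕ) := [[0],
  [1],
  [2]]
def iv (a : ℕ) : ℕ := [0,1,2,3,4].getD a 0
noncomputable def RR0 : List Rule := [.bwd [0] 0 0 0,
  .sub [] [] 0 0,
  .bwd [3,0,3] 8 2 0,
  .bwd [2,0,2] 7 2 0]
noncomputable def RR1 : List Rule := [.bwd [1] 1 0 0,
  .sub [] [] 1 0,
  .bwd [3,1,3] 9 2 0,
  .bwd [0,1,0,1,0] 4 1 0]
noncomputable def RR2 : List Rule := [.bwd [2] 2 0 0,
  .sub [] [] 2 0,
  .bwd [1,2,1,2,1] 5 1 0,
  .bwd [0,2,0] 7 1 0]
noncomputable def RR3 : List Rule := [.bwd [3] 3 0 0,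
  .bwd [2,3,2,3,2] 6 1 0,
  .bwd [1,3,1] 9 1 0,
  .bwd [0,3,0] 8 1 0]
noncomputable def RR : List (List Rule) := [RR0, RR1, RR2, RR3]
noncomputable def rowp (j : ℕ) : ℕ := piece tT (nat_lit 3) (nat_lit 7) (nat_lit 4096) (Nat.pred (Nat.shiftLeft 1 (nat_lit 4096))) j
noncomputable def row (u : ℕ) : ℕ := rowOf rowp (nat_lit 7) (nat_lit 127) (nat_lit 32) u
noncomputable def jrowp (j : ℕ) : ℕ := piece tJ (nat_lit 3) (nat_lit 7) (nat_lit 3072) (Nat.pred (Nat.shiftLeft 1 (nat_lit 3072))) j
noncomputable def jrow (u : ℕ) : ℕ := rowOf jrowp (nat_lit 8) (nat_lit 255) (nat_lit 12) u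
noncomputable def drowp (j : ℕ) : ℕ := piece tD (nat_lit 3) (nat_lit 7) (nat_lit 3584) (Nat.pred (Nat.shiftLeft 1 (nat_lit 3584))) j
noncomputable def drow (u : ℕ) : ℕ := rowOf drowp (nat_lit 8) (nat_lit 255) (nat_lit 14) u
noncomputable def cert : PCert := ⟨(nat_lit 4), (nat_lit 4), (nat_lit 7), (nat_lit 8), (nat_lit 255), (nat_lit 254), (nat_lit 5), (nat_lit 4), (nat_lit 4), (nat_lit 3), (nat_lit 7), (nat_lit 3), (nat_lit 7), (nat_lit 16383), (nat_lit 0), row, jrow, drow, RR⟩
theorem params : cert.paramsOK = true := by decide +kernel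
theorem rules : rulesOK rels subs iv cert.L cert.LL cert.RR = true := by decide +kernel
theorem blk0 : cert.alive (nat_lit 0) (nat_lit 1) (nat_lit 5) = 0 := by decide +kernel
theorem up0 : cert.Upto 0 := PCert.upto_zero _
theorem up1 : cert.Upto 5 := up0.alive params blk0 (by decide)

theorem covers {G : Type*} [Group G] {g : ℕ → G} {H : Subgroup G}
    (h : Sat g H 4 iv rels subs) : Covers g 4 H 5 :=
  PCert.covers (p := cert) params rules (by decide +kernel) up1 h

end CL.E32.S5.Eabcd

namespace CL.E32.S5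
open CL.CE CL.K CL.Reg

def iv (a : ℕ) : ℕ := [0,1,2,3].getD a a
def Rels : List (List ℕ) := [[0,0], [1,1], [2,2], [3,3], [0,1,0,1,0,1], [1,2,1,2,1,2], [2,3,2,3,2,3], [0,2,0,2], [0,3,0,3], [1,3,1,3]]

theorem idx_a {G : Type*} [Group G] {g : ℕ → G} (h : Pres g iv Rels) :
    IdxLe (gen g []) (gen g [[0]]) 2 :=
  h.idxLe _ _ CL.E32.S5.Ea.covers (by decide +kernel)

theorem le_a {G : Type*} [Group G] {g : ℕ → G} (h : Pres g iv Rels) :
    CardLe (gen g [[0]]) 2 :=
  (idx_a h).cardLe (cardLe_nil g) (by norm_num)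

theorem idx_ab {G : Type*} [Group G] {g : ℕ → G} (h : Pres g iv Rels) :
    IdxLe (gen g [[0]]) (gen g [[0], [1]]) 3 :=
  h.idxLe _ _ CL.E32.S5.Eab.covers (by decide +kernel)

theorem le_ab {G : Type*} [Group G] {g : ℕ → G} (h : Pres g iv Rels) :
    CardLe (gen g [[0], [1]]) 6 :=
  (idx_ab h).cardLe (le_a h) (by norm_num)

theorem idx_abc {G : Type*} [Group G] {g : ℕ → G} (h : Pres g iv Rels) :
    IdxLe (gen g [[0], [1]]) (gen g [[0], [1], [2]]) 4 :=
  h.idxLe _ _ CL.E32.S5.Eabc.covers (by decide +kernel)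

theorem le_abc {G : Type*} [Group G] {g : ℕ → G} (h : Pres g iv Rels) :
    CardLe (gen g [[0], [1], [2]]) 24 :=
  (idx_abc h).cardLe (le_ab h) (by norm_num)

theorem idx_abcd {G : Type*} [Group G] {g : ℕ → G} (h : Pres g iv Rels) :
    IdxLe (gen g [[0], [1], [2]]) (gen g [[0], [1], [2], [3]]) 5 :=
  h.idxLe _ _ CL.E32.S5.Eabcd.covers (by decide +kernel)

theorem le_abcd {G : Type*} [Group G] {g : ℕ → G} (h : Pres g iv Rels) :
    CardLe (gen g [[0], [1], [2], [3]]) 120 :=
  (idx_abcd h).cardLe (le_abc h) (by norm_num)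

noncomputable def H_T : ℕ := nat_lit 0xedd7a73efcb8f0dfdf76de3b3bebe1b7577d3db467e99bb65e79f276eba71e2c787ae0c5ceff5bdd30ddcb76e74c96f9dce5bed59b563957b3c2b72abc6c54d7529f1d54b853dd477d0db667ef9dbb64da13666e9f2f6ccd95674a95ae4eca7235ea8faa5c8d11b4c5cf8a26987a33428b0a0e889033c1cd7a1bf7f95f66b8f72e4799203d778e33ac0e9ce3bee3139c2eef376f81b6172d705f697edb5bafd9de66caeb6637195bb6f1a31616a8afaebd75aacb6caeb0c2aac595d5d85caabd6535a92aa929455509ea2b4d4d3d2a51d4a6a3398254b41251988e84f453d6a39a950ce42826c93f3104b968a39f927a5213b264209098ec78d0dd9c3914dc6826a2c43311c1a8470c43305e13e2d04bc08065e167c55f9828f9e977ac4a3c74dc9bb2649d1b22e493870d0c916c41bb31ed9ab26a447b41ccca90643988f5eb06b01a317a416b862d5aa510b562962812ad527542c4a910a0f0a4e21309481d28d0c9118c467c3220a8439e4014f9d3c744053610e13066cd12345819904602152e08b142a50702024c8042404883203c08e0034507180058614240080e18280080c101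
noncomputable def H_W : ℕ := nat_lit 0x123412312101234123120123412321012342312102341231210012341232001234231200234123120012341231001234232100234123210012343121002342312100341231210001234123000123423200023412320001234312000234231200034123120001234231000234123100012343210002342321000341232100012341210002343121000342312100041231210000123423000023412300001234320000234232000034123200001234120000234312000034231200004123120000123431000023423100003412310000123421000023432100003423210000412321000023412100003431210000423121000012312100000123430000023423000003412300000123420000023432000003423200000412320000023412000003431200000423120000012312000001234100000234310000034231000004123100000234210000034321000004232100000123210000034121000004312100000231210000001234000000234300000034230000004123000000234200000034320000004232000000123200000034120000004312000000231200000023410000003431000000423100000012310000003421000000432100000023210000004121000000312100000002340000000343000000042300000001230000000342000000043200000002320000000412000000031200000003410000000431000000023100000004210000000321000000012100000000340000000043000000002300000000420000000032000000001200000000410000000031000000002100000000040000000003000000000200000000010000000000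
noncomputable def H_I : ℕ := nat_lit 0xefcfa75edaf6f0d5bb8ece5bee60cb773e2bf930e8c76f369bd329cdaf42454b32a4d69f2ec5a9d4a8d58eda0b96b0a2b77ae9fb164fa233811a1b470ede2056b90aa5eb0fa34a993a450756b05279117366079a3858811244ca15323860d12285850e184040608080
noncomputable def H_dat : Dat := ⟨nat_lit 120, nat_lit 4, nat_lit 10, [0,1,2,3], tb (nat_lit 4) (nat_lit 7) (nat_lit 127) H_T,
  fld (nat_lit 40) (nat_lit 1099511627775) H_W, fld (nat_lit 7) (nat_lit 127) H_I⟩
theorem H_chk : H_dat.Chk Rels :=
  Dat.chk_of (a := 10) (b := 12) (by decide +kernel) rfl (by decide +kernel)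
theorem H_good : H_dat.Good Rels := H_chk.good fun _ hg => le_abcd hg
/-- the group of the table -/
abbrev H : Type := RG H_dat H_good
theorem H_hom {G : Type*} [Group G] {g : ℕ → G} (hg : Pres g iv Rels) :
    ∃ φ : H →* G, φ.range = gen g [[0], [1], [2], [3]] ∧
      ∀ w : List ℕ, ltAll 4 w = true → φ (RG.wd H_good w) = ev g w :=
  RG.exists_hom hg fun _ hg' => le_abcd hg'

noncomputable def a : H := RG.mk' H_good (nat_lit 1)
noncomputable def b : H := RG.mk' H_good (nat_lit 2)
noncomputable def c : H := RG.mk' H_good (nat_lit 3)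
noncomputable def d : H := RG.mk' H_good (nat_lit 4)
theorem wd_a : RG.wd H_good [0] = a := by decide +kernel
theorem wd_b : RG.wd H_good [1] = b := by decide +kernel
theorem wd_c : RG.wd H_good [2] = c := by decide +kernel
theorem wd_d : RG.wd H_good [3] = d := by decide +kernel

end CL.E32.S5
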