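/- Data for the group `2^(1+4).S3` of `M12`-type (generated). -/
import Cfsg.Agent.REC.E32.Mod

set_option autoImplicit false
set_option maxRecDepth 100000
set_option synthInstance.maxSize 4000

namespace CL.E32.Ap

open Subgroup CL.CE CL.A10 CL.Reg CL.K

variable {G : Type*} [Group G]

noncomputable def p2 : H := RG.mk' H_good (nat_lit 27)
noncomputable def p3 : H := RG.mk' H_good (nat_lit 53)
noncomputable def a1 : H := RG.mk' H_good (nat_lit 17)
noncomputable def v0 : H := RG.mk' H_good (nat_lit 142)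
noncomputable def W (w : H) : List ℕ := force (fld 24 16777215 (nat_lit 0x1123000023000000000000000132000312000000000000000000000000000000000000000213000123000000001132000000000032000000000000000000000000000000000000000000000000000000000000000000000000000000000000000000011232000000000232000000000000000000000000000000000000011323000323000000000113000000000000000000000000000000000000000000000000000000000000000000000000000000000000000000000000000000000000000000000000000000002132000000000000000000001232000000000000000000000000000000000000000000000000000000000000000000000000000000000000000000000000000000000000000000000000000000000000000000000000003123001323000000000013000000000000000000000031000000000000000000000000000000000000000000000000000000000000000000000000000000000000000000000000000000000000000012000021000000000000000000000000000000000000000000000000000000000000000003000000000000000000000000000000000000000000000000000000000000000000000000000000000000000000000000000000000000000000000000000000000000000000000000000112000002000000000000000000000000000000000000000000000000000000000000112323002323000000000000000011000000000000000000000000000000012323021323000000000000000111000001000000)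 w.val) (dig 6)
noncomputable def A1 (w : H) : H := RG.mk' H_good (fld 8 255 (nat_lit 0xaeb700000205000000000000010600b600af0000000000000000000000000000007400580000000000001c910054000000000000000000000000000000000000000000410000005a0000000000000000000000000000000000000000000000008e9a00400000005b00000000000000000000000000000000000035980000000000000000000078000000000000000000000000000000000000000000000000901b000000000000000000000c1000000f0000000000bbac0000baaa00) w.val)
noncomputable def A2 (w : H) : H := RG.mk' H_good (fld 8 255 (nat_lit 0xaeb700000205000000000000010600b600af0000000000000000000000000000001c0091000000000000547800900000000000000000000000000000000000000000008e0000009a0000000000000000000000000000000000000000000000005b400035000000980000000000000000000000000000000000005a41000000000000000000001b0000000000000000000000000000000000000000000000007458000000000000000000000c1000000f0000000000bbac0000baaa00) w.val)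
noncomputable def A3 (w : H) : H := RG.mk' H_good (fld 8 255 (nat_lit 0xb6af00000502000000000000060100ae00b70000000000000000000000000000005400780000000000001c9100740000000000000000000000000000000000000000005a000000410000000000000000000000000000000000000000000000003598005b000000400000000000000000000000000000000000008e9a0000000000000000000058000000000000000000000000000000000000000000000000901b000000000000000000000c1000000f0000000000baaa0000bbac00) w.val)
noncomputable def A4 (w : H) : H := RG.mk' H_good (fld 8 255 (nat_lit 0xb6af00000502000000000000060100ae00b700000000000000000000000000000090001b0000000000005478001c0000000000000000000000000000000000000000009a0000008e0000000000000000000000000000000000000000000000005a410098000000350000000000000000000000000000000000005b4000000000000000000000910000000000000000000000000000000000000000000000007458000000000000000000000c1000000f0000000000baaa0000bbac00) w.val)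
abbrev PL (u v w : H) : Prop := (u = RG.mk' H_good (nat_lit 170) ∧ v = RG.mk' H_good (nat_lit 27) ∧ w = RG.mk' H_good (nat_lit 120)) ∨
  (u = RG.mk' H_good (nat_lit 170) ∧ v = RG.mk' H_good (nat_lit 88) ∧ w = RG.mk' H_good (nat_lit 27)) ∨
  (u = RG.mk' H_good (nat_lit 172) ∧ v = RG.mk' H_good (nat_lit 27) ∧ w = RG.mk' H_good (nat_lit 88)) ∨
  (u = RG.mk' H_good (nat_lit 172) ∧ v = RG.mk' H_good (nat_lit 88) ∧ w = RG.mk' H_good (nat_lit 145))

theorem hW : ∀ w, Cm r1 w → al W a p2 p3 w = w := by decide +kernel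
theorem tab1 : ∀ w, Cm r1 w → al W (RG.mk' H_good (nat_lit 170)) (RG.mk' H_good (nat_lit 27)) (RG.mk' H_good (nat_lit 120)) w = A1 w := by decide +kernel
theorem tab2 : ∀ w, Cm r1 w → al W (RG.mk' H_good (nat_lit 170)) (RG.mk' H_good (nat_lit 88)) (RG.mk' H_good (nat_lit 27)) w = A2 w := by decide +kernel
theorem tab3 : ∀ w, Cm r1 w → al W (RG.mk' H_good (nat_lit 172)) (RG.mk' H_good (nat_lit 27)) (RG.mk' H_good (nat_lit 88)) w = A3 w := by decide +kernel
theorem tab4 : ∀ w, Cm r1 w → al W (RG.mk' H_good (nat_lit 172)) (RG.mk' H_good (nat_lit 88)) (RG.mk' H_good (nat_lit 145)) w = A4 w := by decide +kernel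
def V : Subgroup H where
  carrier := {w | Nat.testBit (nat_lit 0x3000000000000000000000000000018019001) w.val = true}
  mul_mem' := fun {v w} hv hw => (by decide +kernel : ∀ v : H, Nat.testBit (nat_lit 0x3000000000000000000000000000018019001) v.val = true →
    ∀ w : H, Nat.testBit (nat_lit 0x3000000000000000000000000000018019001) w.val = true → Nat.testBit (nat_lit 0x3000000000000000000000000000018019001) (v * w).val = true) v hv w hw
  one_mem' := (by decide +kernel : Nat.testBit (nat_lit 0x3000000000000000000000000000018019001) (1 : H).val = true)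
  inv_mem' := fun {v} hv => (by decide +kernel : ∀ v : H, Nat.testBit (nat_lit 0x3000000000000000000000000000018019001) v.val = true →
    Nat.testBit (nat_lit 0x3000000000000000000000000000018019001) (v⁻¹).val = true) v hv

instance : DecidablePred (· ∈ V) := fun w => inferInstanceAs (Decidable (Nat.testBit (nat_lit 0x3000000000000000000000000000018019001) w.val = true))

theorem card_V : Nat.card V = 8 := (RG.ncard_eq (· ∈ V)).trans (by decide +kernel)

def E : Subgroup H where
  carrier := {w | Nat.testBit (nat_lit 0x19001) w.val = true}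
  mul_mem' := fun {v w} hv hw => (by decide +kernel : ∀ v : H, Nat.testBit (nat_lit 0x19001) v.val = true →
    ∀ w : H, Nat.testBit (nat_lit 0x19001) w.val = true → Nat.testBit (nat_lit 0x19001) (v * w).val = true) v hv w hw
  one_mem' := (by decide +kernel : Nat.testBit (nat_lit 0x19001) (1 : H).val = true)
  inv_mem' := fun {v} hv => (by decide +kernel : ∀ v : H, Nat.testBit (nat_lit 0x19001) v.val = true →
    Nat.testBit (nat_lit 0x19001) (v⁻¹).val = true) v hv

instance : DecidablePred (· ∈ E) := fun w => inferInstanceAs (Decidable (Nat.testBit (nat_lit 0x19001) w.val = true))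

theorem card_E : Nat.card E = 4 := (RG.ncard_eq (· ∈ E)).trans (by decide +kernel)

noncomputable def σl : List H := [RG.mk' H_good (nat_lit 6), RG.mk' H_good (nat_lit 5), RG.mk' H_good (nat_lit 8), RG.mk' H_good (nat_lit 7), RG.mk' H_good (nat_lit 2), RG.mk' H_good (nat_lit 1), RG.mk' H_good (nat_lit 4), RG.mk' H_good (nat_lit 3), RG.mk' H_good (nat_lit 70), RG.mk' H_good (nat_lit 99), RG.mk' H_good (nat_lit 11), RG.mk' H_good (nat_lit 11)]

theorem hPL : ∀ a', Cm r1 a' → a' * a' = r1 → ∀ b', Cm r1 b' → b' * b' = 1 → ∀ c', Cm r1 c' →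
    c' * c' = 1 → al W a' b' c' r1 = s * r1 →
    (∃ ρ, Cm r1 ρ ∧ C3 (al W a' b' c') ρ a ∧ C3 (al W a' b' c') ρ p2 ∧ C3 (al W a' b' c') ρ p3) →
    (∃ ρ, Cm r1 ρ ∧ CT (al W a' b' c') b ρ a ∧ CT (al W a' b' c') b ρ p2 ∧ CT (al W a' b' c') b ρ p3) →
    ∃ ρ, PL (ρ * a' * ρ⁻¹) (ρ * b' * ρ⁻¹) (ρ * c' * ρ⁻¹) := by decide +kernel

theorem twist : ∀ w, Cm r1 w → Cm r1 (sg σl w) ∧ A4 (sg σl w) = sg σl (A2 w) := by decide +kernel

theorem fix1 : ∀ k : H, (∀ w, Cm r1 w → k * w * k⁻¹ = w) → k = 1 ∨ k = s ∨ k = r1 ∨ k = s * r1 := by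
  decide +kernel

theorem fix2 : ∀ w, Cm r1 w → Cm r1 (A2 w) ∧ A2 (A2 (A2 w)) = w ∧ Cm r1 (a1⁻¹ * w * a1) ∧
    a1 * A2 (a1⁻¹ * A2 w * a1) * a1⁻¹ = w ∧ r1 * A2 (r1⁻¹ * w * r1) * r1⁻¹ = A2 w ∧
    Cm r1 (r1⁻¹ * w * r1) := by decide +kernel

theorem pins {f : H →* G} (F : Fr f s) (hc : IsConj (f s) (f r1)) :
    (∃ y, Acts f (Cm r1) y A1) ∨ (∃ y, Acts f (Cm r1) y A3) ∨
      ∃ (f' : H →* G) (y : G), Fr f' s ∧ Pin f' r1 A2 a1 y := by
  obtain ⟨h, h1, h2⟩ := exists_h1 F hc
  obtain ⟨_, _, _, hp, y, hy⟩ := F.exists_pin (τ := b) h1 h2 (by decide +kernel) hW (by decide +kernel)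
    (by decide +kernel) (by decide +kernel) aa (by decide +kernel) (by decide +kernel) PL hPL
  have key : ∀ {f : H →* G}, Fr f s → Acts f (Cm r1) y A2 → ∃ y', Pin f r1 A2 a1 y' := fun F h =>
    F.pin_fix h (by decide +kernel) (by decide +kernel) (by decide +kernel) (by decide +kernel)
      (by decide +kernel) (by decide +kernel) fix1 fix2 (by decide +kernel) (by decide +kernel)
  rcases hp with ⟨rfl, rfl, rfl⟩ | ⟨rfl, rfl, rfl⟩ | ⟨rfl, rfl, rfl⟩ | ⟨rfl, rfl, rfl⟩
  · exact Or.inl ⟨y, hy.congr tab1⟩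
  · obtain ⟨y', hy'⟩ := key F (hy.congr tab2)
    exact Or.inr (Or.inr ⟨f, y', F, hy'⟩)
  · exact Or.inr (Or.inl ⟨y, hy.congr tab3⟩)
  · obtain ⟨σ, h3, h4, h5⟩ := exists_aut σl (by decide +kernel) rfl (by decide +kernel)
    obtain ⟨y', hy'⟩ := key (F.comp σ h3 h4) ((hy.congr tab4).comp σ (by simpa only [h5] using twist))
    exact Or.inr (Or.inr ⟨_, y', F.comp σ h3 h4, hy'⟩)

theorem V_norm : ∀ v ∈ V, ∀ k, k * v * k⁻¹ ∈ V := by decide +kernel
theorem V_comm : ∀ u ∈ V, ∀ v ∈ V, u * v = v * u := by decide +kernel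
theorem V_sq : ∀ u ∈ V, u * u = 1 := by decide +kernel
theorem V_cent : ∀ k, (∀ u ∈ V, k * u = u * k) → k ∈ V := by decide +kernel
theorem V_tr : ∀ v ∈ V, v = 1 ∨ v = s ∨ ∃ k, k * v * k⁻¹ = r1 := by decide +kernel
theorem V_A : ∀ v ∈ V, A1 v ∈ V ∧ A3 v ∈ V := by decide +kernel
theorem V_U1 : ∀ w : H, w * w = 1 → w ∈ V ∨ (∃ k, k * w * k⁻¹ = r2) ∨
    ∃ k, Cm r1 (k * w * k⁻¹) ∧ ∃ k', k' * A1 (k * w * k⁻¹) * k'⁻¹ = r2 := by decide +kernel
theorem V_U3 : ∀ w : H, w * w = 1 → w ∈ V ∨ (∃ k, k * w * k⁻¹ = r2) ∨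
    ∃ k, Cm r1 (k * w * k⁻¹) ∧ ∃ k', k' * A3 (k * w * k⁻¹) * k'⁻¹ = r2 := by decide +kernel
theorem V_U2 : (∃ v ∈ V, v * r2 * v⁻¹ * r2⁻¹ = s) ∧
    (∀ v ∈ V, v * r2 * v⁻¹ * r2⁻¹ = 1 ∨ v * r2 * v⁻¹ * r2⁻¹ = s) ∧
    ∃ e ∈ V, e ≠ 1 ∧ e ≠ s ∧ e * r2 = r2 * e := by decide +kernel

theorem invs : ∀ w : H, w * w = 1 → w = 1 ∨ w = s ∨
    ∃ k, k * w * k⁻¹ = r1 ∨ k * w * k⁻¹ = p3 ∨ k * w * k⁻¹ = r2 := by decide +kernel
theorem T_pow : ∀ w, Cm r2 w → w ^ 2 ^ 2 = 1 := by decide +kernel
theorem T_cen : ∀ w : H, (∀ v, Cm r2 v → v * w = w * v) → w = 1 ∨ w = s ∨ ∃ k, k * w * k⁻¹ = r2 := by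
  decide +kernel
theorem T_card : {w | w * r2 = r2 * w}.ncard = 16 := (RG.ncard_eq _).trans (by decide +kernel)
theorem T_d8 : ∀ k, Cm r2 k → ∃ i : Fin 4, (k⁻¹ * b ^ i.val = 1 ∨ k⁻¹ * b ^ i.val = r2) ∨
    (k⁻¹ * (r1 * b ^ i.val) = 1 ∨ k⁻¹ * (r1 * b ^ i.val) = r2) := by decide +kernel
theorem T_E : ∀ k, Cm r2 k → (∀ e ∈ E, k * e * k⁻¹ ∈ E) ∧
    (k * k = 1 → k ∈ E ∨ ∃ l, l * k * l⁻¹ = r2) := by decide +kernel
theorem E_facts : ∀ e ∈ E, Cm r1 e ∧ A2 e ∈ E ∧ e * e = 1 ∧ Cm r2 e := by decide +kernel
theorem sqs : ∀ w : H, w * w = 1 ∨ w * w = s ∨ w * w * (w * w) ≠ 1 ∨ ∃ k, k * (w * w) * k⁻¹ = r1 := by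
  decide +kernel
theorem cnt1 : {w : H | w * w = 1 ∧ w ≠ 1 ∧ ¬ ∃ k, k * w * k⁻¹ = r2}.ncard = 31 :=
  (RG.ncard_eq _).trans (by decide +kernel)
theorem cnt2 : {w : H | w * w = 1 ∧ ∃ k, k * w * k⁻¹ = r2}.ncard = 12 :=
  (RG.ncard_eq _).trans (by decide +kernel)
theorem tv : ∀ w : H, w * t = t * w → w * v0 = v0 * w → w = 1 ∨ w = s := by decide +kernel

end CL.E32.Ap
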