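/- Data for the group `2^(1+4).S3` of `A8`-type (generated). -/
import Cfsg.Agent.REC.E32.Mod

set_option autoImplicit false
set_option maxRecDepth 100000
set_option synthInstance.maxSize 4000

namespace CL.E32.Bp

open Subgroup CL.CE CL.A10 CL.Reg CL.K

variable {G : Type*} [Group G]

noncomputable def g1 : H := RG.mk' H_good (nat_lit 27)
noncomputable def τ1 : H := RG.mk' H_good (nat_lit 17)
noncomputable def τ2 : H := RG.mk' H_good (nat_lit 25)
noncomputable def τ3 : H := RG.mk' H_good (nat_lit 155)
noncomputable def a0 : H := RG.mk' H_good (nat_lit 65)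
noncomputable def k0 : H := RG.mk' H_good (nat_lit 135)
noncomputable def ρ0 : H := RG.mk' H_good (nat_lit 62)
noncomputable def t1 : H := RG.mk' H_good (nat_lit 115)
noncomputable def a1 : H := RG.mk' H_good (nat_lit 134)
noncomputable def σ0 : H := RG.mk' H_good (nat_lit 77)
noncomputable def σ1 : H := RG.mk' H_good (nat_lit 114)
abbrev St (w : H) : Prop := Nat.testBit (nat_lit 0x401012120c00008000080000c000040c0420000018079800) w.val = true
abbrev Ut (w : H) : Prop := Nat.testBit (nat_lit 0x802048280300004000040000000020f20000000006000000) w.val = true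
noncomputable def W1 (w : H) : List ℕ := force (fld 20 1048575 (nat_lit 0x112320023200000000000113200032000000000000000000000000000000000000000000000000000000000000000000000000132002310000000000000000000000000000000000000000000000000000000000000000000000000000000000000000000032100123000000000000000000000000000000011230000000000000230000000000000000000000000000000000000000023210123200000000000000000000000000000000000000000000000000000000000000000000000000000000001210000000000003230000000000000000000000013000310000000000001120000000000000000000000000000000000000000000000000000000000000000000000000000000000000000000000000000000000000000012000000000001112000000000000000000000000000000000000000000000000000011300003000000000001121000000000000021000000000000000000000121202323000000000000011000020000000000000000000000212112120000000000001110000100000) w.val) (dig 5)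
noncomputable def B1 (w : H) : H := RG.mk' H_good (fld 8 255 (nat_lit 0x9b1c0000152a00000000000000000000000000005e450000000000000000000000000000000000005f440000000000002700001800000000000000000b4a000000000000000000000000000000007200008700000000414d0000860000000000000000000000000000000000000000000005000002000000000000000000001b9a000006000001000000000c1000000f7300000000689600006b9700) w.val)
noncomputable def D1 (w : H) : H := RG.mk' H_good (fld 8 255 (nat_lit 0x9a1b00002a150000000000000000000000000000455e000000000000000000000000000000000000445f000000000000180000270000000000000000414d0000000000000000000000000000000086000073000000000b4a0000720000000000000000000000000000000000000000000001000006000000000000000000001c9b000002000005000000000c1000000f8700000000689600006b9700) w.val)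
abbrev PL1 (u v w : H) : Prop := (u = RG.mk' H_good (nat_lit 151) ∧ v = RG.mk' H_good (nat_lit 115) ∧ w = RG.mk' H_good (nat_lit 154)) ∨
  (u = RG.mk' H_good (nat_lit 151) ∧ v = RG.mk' H_good (nat_lit 135) ∧ w = RG.mk' H_good (nat_lit 155))

theorem hW1 : ∀ w, Cm r1 w → al W1 a t g1 w = w := by decide +kernel
theorem tabB1 : ∀ w, Cm r1 w → al W1 (RG.mk' H_good (nat_lit 151)) (RG.mk' H_good (nat_lit 115)) (RG.mk' H_good (nat_lit 154)) w = B1 w := by decide +kernel
theorem tabD1 : ∀ w, Cm r1 w → al W1 (RG.mk' H_good (nat_lit 151)) (RG.mk' H_good (nat_lit 135)) (RG.mk' H_good (nat_lit 155)) w = D1 w := by decide +kernel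

theorem hPL1 : ∀ a', Cm r1 a' → a' * a' = r1 → ∀ b', Cm r1 b' → b' * b' = 1 → ∀ c', Cm r1 c' →
    c' * c' = 1 → al W1 a' b' c' r1 = s * r1 →
    (∃ ρ, Cm r1 ρ ∧ C3 (al W1 a' b' c') ρ a ∧ C3 (al W1 a' b' c') ρ t ∧ C3 (al W1 a' b' c') ρ g1) →
    (∃ ρ, Cm r1 ρ ∧ CT (al W1 a' b' c') b ρ a ∧ CT (al W1 a' b' c') b ρ t ∧
      CT (al W1 a' b' c') b ρ g1) →
    ∃ ρ, PL1 (ρ * a' * ρ⁻¹) (ρ * b' * ρ⁻¹) (ρ * c' * ρ⁻¹) := by decide +kernel

theorem pins1 {f : H →* G} (F : Fr f s) (hc : IsConj (f s) (f r1)) :
    ∃ y, Acts f (Cm r1) y B1 ∨ Acts f (Cm r1) y D1 := by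
  obtain ⟨h, h1, h2⟩ := exists_h1 F hc
  obtain ⟨_, _, _, hp, y, hy⟩ := F.exists_pin (τ := b) h1 h2 (by decide +kernel) hW1 (by decide +kernel)
    (by decide +kernel) (by decide +kernel) (by decide +kernel) (by decide +kernel) (by decide +kernel)
    PL1 hPL1
  rcases hp with ⟨rfl, rfl, rfl⟩ | ⟨rfl, rfl, rfl⟩
  · exact ⟨y, Or.inl (hy.congr tabB1)⟩
  · exact ⟨y, Or.inr (hy.congr tabD1)⟩

noncomputable def W2 (w : H) : List ℕ := force (fld 24 16777215 (nat_lit 0x1213001231000000000000000000000000000000000000000000000000000231000213000000000000000000000000000000000000000000000000011121000121000000000000000000000000000000000000000000000000000000000000000000000000000000000000000000000000000000000000111212001212000000000000000000000000000000000000000000000000000000000000000123000000000000000312000000000000001123000000000000000023000000000000000000000000012123012312000031000013000112000000000000000000000000001112000012000000000000000000000000000000000000000000000000000000000000000000000000000000000000000000000000000000000000000000000000000000000000011212000212001121000000000000000021000000000000000000000000000000000000000000000000000000000000000000000000002123002312000113000003000000000000000011000002000000000000000000000000000000000000000111000001000000000000000000)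 w.val) (dig 6)
noncomputable def B2 (w : H) : H := RG.mk' H_good (fld 8 255 (nat_lit 0x10450000000000000000223c0000000000000000874d0000000000000000000000000000000000005e0c000000000000000000001f00003b00004400000f000000004172421286000000000323000000000000000000000000000000000000000000007d50240000040000000000000000000000004311730b00005f4a000000000000537c000000) w.val)
noncomputable def D2 (w : H) : H := RG.mk' H_good (fld 8 255 (nat_lit 0x451000000000000000003b1f00000000000000004a860000000000000000000000000000000000005e0c000000000000000000003c00002200000f000044000000000b7342124d000000002303000000000000000000000000000000000000000000007c53040000240000000000000000000000004311724100005f87000000000000507d000000) w.val)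
abbrev PL2 (u v w : H) : Prop := (u = RG.mk' H_good (nat_lit 124) ∧ v = RG.mk' H_good (nat_lit 74) ∧ w = RG.mk' H_good (nat_lit 11)) ∨
  (u = RG.mk' H_good (nat_lit 125) ∧ v = RG.mk' H_good (nat_lit 135) ∧ w = RG.mk' H_good (nat_lit 65))

theorem hW2 : ∀ w, Cm r2 w → al W2 b t r1 w = w := by decide +kernel
theorem tabB2 : ∀ w, Cm r2 w → al W2 (RG.mk' H_good (nat_lit 124)) (RG.mk' H_good (nat_lit 74)) (RG.mk' H_good (nat_lit 11)) w = B2 w := by decide +kernel
theorem tabD2 : ∀ w, Cm r2 w → al W2 (RG.mk' H_good (nat_lit 125)) (RG.mk' H_good (nat_lit 135)) (RG.mk' H_good (nat_lit 65)) w = D2 w := by decide +kernel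

theorem hPL2 : ∀ a', Cm r2 a' → a' * a' = r2 → ∀ b', Cm r2 b' → b' * b' = 1 → ∀ c', Cm r2 c' →
    c' * c' = 1 → al W2 a' b' c' r2 = s * r2 →
    (∃ ρ, Cm r2 ρ ∧ C3 (al W2 a' b' c') ρ b ∧ C3 (al W2 a' b' c') ρ t ∧ C3 (al W2 a' b' c') ρ r1) →
    (∃ ρ, Cm r2 ρ ∧ CT (al W2 a' b' c') a ρ b ∧ CT (al W2 a' b' c') a ρ t ∧
      CT (al W2 a' b' c') a ρ r1) →
    ∃ ρ, PL2 (ρ * a' * ρ⁻¹) (ρ * b' * ρ⁻¹) (ρ * c' * ρ⁻¹) := by decide +kernel

theorem pins2 {f : H →* G} (F : Fr f s) (hc : IsConj (f s) (f r2)) :
    ∃ y, Acts f (Cm r2) y B2 ∨ Acts f (Cm r2) y D2 := by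
  obtain ⟨h, h1, h2⟩ := exists_h2 F hc
  obtain ⟨_, _, _, hp, y, hy⟩ := F.exists_pin (τ := a) h1 h2 (by decide +kernel) hW2 (by decide +kernel)
    (by decide +kernel) (by decide +kernel) (by decide +kernel) (by decide +kernel) (by decide +kernel)
    PL2 hPL2
  rcases hp with ⟨rfl, rfl, rfl⟩ | ⟨rfl, rfl, rfl⟩
  · exact ⟨y, Or.inl (hy.congr tabB2)⟩
  · exact ⟨y, Or.inr (hy.congr tabD2)⟩

noncomputable def W3 (w : H) : List ℕ := force (fld 24 16777215 (nat_lit 0x11121000121000000000000000000000000000000000000000000000000000000000000000000000000000000000000000000000000000000000000001213001231000000000000000000000000000000000000000000000000000000000000000000000000000123000000000000000312000000000000012123012312000000000000000231000213000000000000000000000000000000000000000000000000000000000000000000000000001123000000000000000023000000000000000031000013111212001212000000000000000112000000000000001112000012000000000000000000000000000000000000000000000000000000000000000000000000001121000000000000000021000000000000000000000000000000000000000000000000000000000000000000000000000000000000000000000000000000000000002123002312000000000000000000000000000000000000000000000000000113000003011212000212000011000002000000000000000111000001000000000000000000000000000000000000000000)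 w.val) (dig 6)
noncomputable def B3 (w : H) : H := RG.mk' H_good (fld 8 255 (nat_lit 0x4a720000000000000000000000000000000000005f100000000000000000000000002d00003d00000b870000303e0000000000000000000000000f00005e00001947440c00004d0000080e0000000000000000000000000d0000070000000000000000000000000000000000001a4600000000000000008641625b457300005a6500000000000000) w.val)
noncomputable def D3 (w : H) : H := RG.mk' H_good (fld 8 255 (nat_lit 0x734d000000000000000000000000000000000000105f0000000000000000000000003d00002d0000418600003e300000000000000000000000005e00000f00001a46440c00007200000d070000000000000000000000000800000e00000000000000000000000000000000000019470000000000000000870b625b454a00005a6500000000000000) w.val)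
abbrev PL3 (u v w : H) : Prop := (u = RG.mk' H_good (nat_lit 101) ∧ v = RG.mk' H_good (nat_lit 115) ∧ w = RG.mk' H_good (nat_lit 65)) ∨
  (u = RG.mk' H_good (nat_lit 101) ∧ v = RG.mk' H_good (nat_lit 74) ∧ w = RG.mk' H_good (nat_lit 11))

theorem hW3 : ∀ w, Cm r3 w → al W3 d t r1 w = w := by decide +kernel
theorem tabB3 : ∀ w, Cm r3 w → al W3 (RG.mk' H_good (nat_lit 101)) (RG.mk' H_good (nat_lit 115)) (RG.mk' H_good (nat_lit 65)) w = B3 w := by decide +kernel
theorem tabD3 : ∀ w, Cm r3 w → al W3 (RG.mk' H_good (nat_lit 101)) (RG.mk' H_good (nat_lit 74)) (RG.mk' H_good (nat_lit 11)) w = D3 w := by decide +kernel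

theorem hPL3 : ∀ a', Cm r3 a' → a' * a' = r3 → ∀ b', Cm r3 b' → b' * b' = 1 → ∀ c', Cm r3 c' →
    c' * c' = 1 → al W3 a' b' c' r3 = s * r3 →
    (∃ ρ, Cm r3 ρ ∧ C3 (al W3 a' b' c') ρ d ∧ C3 (al W3 a' b' c') ρ t ∧ C3 (al W3 a' b' c') ρ r1) →
    (∃ ρ, Cm r3 ρ ∧ CT (al W3 a' b' c') a ρ d ∧ CT (al W3 a' b' c') a ρ t ∧
      CT (al W3 a' b' c') a ρ r1) →
    ∃ ρ, PL3 (ρ * a' * ρ⁻¹) (ρ * b' * ρ⁻¹) (ρ * c' * ρ⁻¹) := by decide +kernel

theorem pins3 {f : H →* G} (F : Fr f s) (hc : IsConj (f s) (f r3)) :
    ∃ y, Acts f (Cm r3) y B3 ∨ Acts f (Cm r3) y D3 := by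
  obtain ⟨h, h1, h2⟩ := exists_h3 F hc
  obtain ⟨_, _, _, hp, y, hy⟩ := F.exists_pin (τ := a) h1 h2 (by decide +kernel) hW3 (by decide +kernel)
    (by decide +kernel) (by decide +kernel) (by decide +kernel) (by decide +kernel) (by decide +kernel)
    PL3 hPL3
  rcases hp with ⟨rfl, rfl, rfl⟩ | ⟨rfl, rfl, rfl⟩
  · exact ⟨y, Or.inl (hy.congr tabB3)⟩
  · exact ⟨y, Or.inr (hy.congr tabD3)⟩

def E : Subgroup H where
  carrier := {w | Nat.testBit (nat_lit 0xc0000c0000c00024320000000000019801) w.val = true}
  mul_mem' := fun {v w} hv hw => (by decide +kernel : ∀ v : H, Nat.testBit (nat_lit 0xc0000c0000c00024320000000000019801) v.val = true →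
    ∀ w : H, Nat.testBit (nat_lit 0xc0000c0000c00024320000000000019801) w.val = true → Nat.testBit (nat_lit 0xc0000c0000c00024320000000000019801) (v * w).val = true) v hv w hw
  one_mem' := (by decide +kernel : Nat.testBit (nat_lit 0xc0000c0000c00024320000000000019801) (1 : H).val = true)
  inv_mem' := fun {v} hv => (by decide +kernel : ∀ v : H, Nat.testBit (nat_lit 0xc0000c0000c00024320000000000019801) v.val = true →
    Nat.testBit (nat_lit 0xc0000c0000c00024320000000000019801) (v⁻¹).val = true) v hv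

instance : DecidablePred (· ∈ E) := fun w => inferInstanceAs (Decidable (Nat.testBit (nat_lit 0xc0000c0000c00024320000000000019801) w.val = true))

theorem card_E : Nat.card E = 16 := (RG.ncard_eq (· ∈ E)).trans (by decide +kernel)

def V : Subgroup H where
  carrier := {w | Nat.testBit (nat_lit 0xc00000000000000000000000000000018019001) w.val = true}
  mul_mem' := fun {v w} hv hw => (by decide +kernel : ∀ v : H, Nat.testBit (nat_lit 0xc00000000000000000000000000000018019001) v.val = true →
    ∀ w : H, Nat.testBit (nat_lit 0xc00000000000000000000000000000018019001) w.val = true → Nat.testBit (nat_lit 0xc00000000000000000000000000000018019001) (v * w).val = true) v hv w hw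
  one_mem' := (by decide +kernel : Nat.testBit (nat_lit 0xc00000000000000000000000000000018019001) (1 : H).val = true)
  inv_mem' := fun {v} hv => (by decide +kernel : ∀ v : H, Nat.testBit (nat_lit 0xc00000000000000000000000000000018019001) v.val = true →
    Nat.testBit (nat_lit 0xc00000000000000000000000000000018019001) (v⁻¹).val = true) v hv

instance : DecidablePred (· ∈ V) := fun w => inferInstanceAs (Decidable (Nat.testBit (nat_lit 0xc00000000000000000000000000000018019001) w.val = true))

theorem card_V : Nat.card V = 8 := (RG.ncard_eq (· ∈ V)).trans (by decide +kernel)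

def V2 : Subgroup H where
  carrier := {w | Nat.testBit (nat_lit 0xc000000c0000000000061001) w.val = true}
  mul_mem' := fun {v w} hv hw => (by decide +kernel : ∀ v : H, Nat.testBit (nat_lit 0xc000000c0000000000061001) v.val = true →
    ∀ w : H, Nat.testBit (nat_lit 0xc000000c0000000000061001) w.val = true → Nat.testBit (nat_lit 0xc000000c0000000000061001) (v * w).val = true) v hv w hw
  one_mem' := (by decide +kernel : Nat.testBit (nat_lit 0xc000000c0000000000061001) (1 : H).val = true)
  inv_mem' := fun {v} hv => (by decide +kernel : ∀ v : H, Nat.testBit (nat_lit 0xc000000c0000000000061001) v.val = true →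
    Nat.testBit (nat_lit 0xc000000c0000000000061001) (v⁻¹).val = true) v hv

instance : DecidablePred (· ∈ V2) := fun w => inferInstanceAs (Decidable (Nat.testBit (nat_lit 0xc000000c0000000000061001) w.val = true))

theorem card_V2 : Nat.card V2 = 8 := (RG.ncard_eq (· ∈ V2)).trans (by decide +kernel)

def F0 : Subgroup H where
  carrier := {w | Nat.testBit (nat_lit 0x4000000000000000220000000000000001) w.val = true}
  mul_mem' := fun {v w} hv hw => (by decide +kernel : ∀ v : H, Nat.testBit (nat_lit 0x4000000000000000220000000000000001) v.val = true →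
    ∀ w : H, Nat.testBit (nat_lit 0x4000000000000000220000000000000001) w.val = true → Nat.testBit (nat_lit 0x4000000000000000220000000000000001) (v * w).val = true) v hv w hw
  one_mem' := (by decide +kernel : Nat.testBit (nat_lit 0x4000000000000000220000000000000001) (1 : H).val = true)
  inv_mem' := fun {v} hv => (by decide +kernel : ∀ v : H, Nat.testBit (nat_lit 0x4000000000000000220000000000000001) v.val = true →
    Nat.testBit (nat_lit 0x4000000000000000220000000000000001) (v⁻¹).val = true) v hv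

instance : DecidablePred (· ∈ F0) := fun w => inferInstanceAs (Decidable (Nat.testBit (nat_lit 0x4000000000000000220000000000000001) w.val = true))

theorem card_F0 : Nat.card F0 = 4 := (RG.ncard_eq (· ∈ F0)).trans (by decide +kernel)

def U0 : Subgroup H where
  carrier := {w | Nat.testBit (nat_lit 0x19001) w.val = true}
  mul_mem' := fun {v w} hv hw => (by decide +kernel : ∀ v : H, Nat.testBit (nat_lit 0x19001) v.val = true →
    ∀ w : H, Nat.testBit (nat_lit 0x19001) w.val = true → Nat.testBit (nat_lit 0x19001) (v * w).val = true) v hv w hw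
  one_mem' := (by decide +kernel : Nat.testBit (nat_lit 0x19001) (1 : H).val = true)
  inv_mem' := fun {v} hv => (by decide +kernel : ∀ v : H, Nat.testBit (nat_lit 0x19001) v.val = true →
    Nat.testBit (nat_lit 0x19001) (v⁻¹).val = true) v hv

instance : DecidablePred (· ∈ U0) := fun w => inferInstanceAs (Decidable (Nat.testBit (nat_lit 0x19001) w.val = true))

theorem card_U0 : Nat.card U0 = 4 := (RG.ncard_eq (· ∈ U0)).trans (by decide +kernel)

noncomputable def σl : List H := [RG.mk' H_good (nat_lit 6), RG.mk' H_good (nat_lit 5), RG.mk' H_good (nat_lit 35), RG.mk' H_good (nat_lit 36), RG.mk' H_good (nat_lit 2), RG.mk' H_good (nat_lit 1), RG.mk' H_good (nat_lit 13), RG.mk' H_good (nat_lit 14), RG.mk' H_good (nat_lit 10), RG.mk' H_good (nat_lit 9), RG.mk' H_good (nat_lit 65), RG.mk' H_good (nat_lit 65)]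
noncomputable def σ12 : List H := [RG.mk' H_good (nat_lit 4), RG.mk' H_good (nat_lit 3), RG.mk' H_good (nat_lit 2), RG.mk' H_good (nat_lit 1), RG.mk' H_good (nat_lit 35), RG.mk' H_good (nat_lit 36), RG.mk' H_good (nat_lit 8), RG.mk' H_good (nat_lit 7), RG.mk' H_good (nat_lit 10), RG.mk' H_good (nat_lit 9), RG.mk' H_good (nat_lit 11), RG.mk' H_good (nat_lit 11)]
noncomputable def σ13 : List H := [RG.mk' H_good (nat_lit 13), RG.mk' H_good (nat_lit 14), RG.mk' H_good (nat_lit 4), RG.mk' H_good (nat_lit 3), RG.mk' H_good (nat_lit 8), RG.mk' H_good (nat_lit 7), RG.mk' H_good (nat_lit 6), RG.mk' H_good (nat_lit 5), RG.mk' H_good (nat_lit 10), RG.mk' H_good (nat_lit 9), RG.mk' H_good (nat_lit 11), RG.mk' H_good (nat_lit 11)]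
noncomputable def σ23 : List H := [RG.mk' H_good (nat_lit 5), RG.mk' H_good (nat_lit 6), RG.mk' H_good (nat_lit 7), RG.mk' H_good (nat_lit 8), RG.mk' H_good (nat_lit 1), RG.mk' H_good (nat_lit 2), RG.mk' H_good (nat_lit 3), RG.mk' H_good (nat_lit 4), RG.mk' H_good (nat_lit 9), RG.mk' H_good (nat_lit 10), RG.mk' H_good (nat_lit 11), RG.mk' H_good (nat_lit 11)]

theorem twist : ∀ w, Cm r1 w → Cm r1 (sg σl w) ∧ D1 (sg σl w) = sg σl (B1 w) := by decide +kernel

theorem aut {f : H →* G} (F : Fr f s) (l : List H) (hl : ∀ r ∈ Rels, ev (lets l) r = 1)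
    (hlen : l.length = 12) (hs : sg l s = s) {u v w : H} (h1 : ∃ k, k * sg l r1 * k⁻¹ = u)
    (h2 : ∃ k, k * sg l r2 * k⁻¹ = v) (h3 : ∃ k, k * sg l r3 * k⁻¹ = w) :
    ∃ σ : H →* H, (∀ w, σ w = sg l w) ∧ Fr (f.comp σ) s ∧
      (IsConj (f.comp σ s) (f.comp σ r1) ↔ IsConj (f s) (f u)) ∧
      (IsConj (f.comp σ s) (f.comp σ r2) ↔ IsConj (f s) (f v)) ∧
      (IsConj (f.comp σ s) (f.comp σ r3) ↔ IsConj (f s) (f w)) := by
  obtain ⟨σ, h4, h5, h6⟩ := exists_aut l hl hlen hs
  have key : ∀ {r u : H}, (∃ k, k * sg l r * k⁻¹ = u) →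
      (IsConj (f.comp σ s) (f.comp σ r) ↔ IsConj (f s) (f u)) := fun ⟨k, e⟩ => by
    rw [MonoidHom.comp_apply, MonoidHom.comp_apply, h5, h6]
    exact ⟨fun h => h.trans (isConj_map f k e), fun h => h.trans (isConj_map f k e).symm⟩
  exact ⟨σ, h6, F.comp σ h4 h5, key h1, key h2, key h3⟩

theorem pin1 {f : H →* G} (F : Fr f s) (hc : IsConj (f s) (f r1)) :
    ∃ (f' : H →* G) (y : G), Fr f' s ∧ Acts f' (Cm r1) y B1 ∧
      (IsConj (f' s) (f' r2) ↔ IsConj (f s) (f r2)) ∧ (IsConj (f' s) (f' r3) ↔ IsConj (f s) (f r3)) := by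
  obtain ⟨y, h | h⟩ := pins1 F hc
  · exact ⟨f, y, F, h, Iff.rfl, Iff.rfl⟩
  · obtain ⟨σ, h1, h2, -, h3, h4⟩ := aut F σl (by decide +kernel) rfl (by decide +kernel) (u := r1)
      (v := r2) (w := r3) (by decide +kernel) (by decide +kernel) (by decide +kernel)
    exact ⟨_, y, h2, h.comp σ (by simpa only [h1] using twist), h3, h4⟩

theorem incomp {f : H →* G} (F : Fr f s) {r r' : H} {y z : G} {A B : H → H} (hy : Acts f (Cm r) y A)
    (hz : Acts f (Cm r') z B) (hP : ∀ w ∈ E, Cm r w ∧ Cm r' w ∧ A w ∈ E ∧ B w ∈ E)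
    (hs : A (B (A (B (A s)))) = s)
    (hk : ∀ k : H, ∃ w ∈ E, k * w * k⁻¹ ≠ A (B (A (B (A w))))) : False := by
  have h1 : Acts f (· ∈ E) y A := hy.mono fun w hw => (hP w hw).1
  have h2 : Acts f (· ∈ E) z B := hz.mono fun w hw => (hP w hw).2.1
  have pA := fun w hw => (hP w hw).2.2.1
  have pB := fun w hw => (hP w hw).2.2.2
  obtain ⟨k, -, h3⟩ := F.mem_of_acts ((((h1.mul h2 pB).mul h1 pA).mul h2 pB).mul h1 pA)
    (by decide +kernel) hs
  obtain ⟨w, hw, e⟩ := hk k
  exact e (h3 w hw)

theorem pin2 {f : H →* G} (F : Fr f s) {y : G} (hy : Acts f (Cm r1) y B1) (hc : IsConj (f s) (f r2)) :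
    (∃ z, Acts f (Cm r2) z B2) ∧ ¬ IsConj (f s) (f r3) := by
  obtain ⟨z, hz | hz⟩ := pins2 F hc
  · refine ⟨⟨z, hz⟩, fun h => ?_⟩
    obtain ⟨v, hv | hv⟩ := pins3 F h
    · exact incomp F hz hv (by decide +kernel) (by decide +kernel) (by decide +kernel)
    · exact incomp F hy hv (by decide +kernel) (by decide +kernel) (by decide +kernel)
  · exact (incomp F hy hz (by decide +kernel) (by decide +kernel) (by decide +kernel)).elim

theorem fix1 {f : H →* G} (F : Fr f s) {y : G} (hy : Acts f (Cm r1) y B1) : ∃ y', Pin f r1 B1 τ1 y' :=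
  F.pin_fix hy (by decide +kernel) (by decide +kernel) (by decide +kernel) (by decide +kernel)
    (by decide +kernel) (by decide +kernel) (by decide +kernel) (by decide +kernel) (by decide +kernel)
    (by decide +kernel)

theorem fix2 {f : H →* G} (F : Fr f s) {y : G} (hy : Acts f (Cm r2) y B2) : ∃ y', Pin f r2 B2 τ2 y' :=
  F.pin_fix hy (by decide +kernel) (by decide +kernel) (by decide +kernel) (by decide +kernel)
    (by decide +kernel) (by decide +kernel) (by decide +kernel) (by decide +kernel) (by decide +kernel)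
    (by decide +kernel)

theorem V_norm : ∀ v ∈ V, ∀ k, k * v * k⁻¹ ∈ V := by decide +kernel
theorem V_comm : ∀ u ∈ V, ∀ v ∈ V, u * v = v * u := by decide +kernel
theorem V_sq : ∀ u ∈ V, u * u = 1 := by decide +kernel
theorem V_cent : ∀ k, (∀ u ∈ V, k * u = u * k) → k ∈ V := by decide +kernel
theorem V_tr : ∀ v ∈ V, v = 1 ∨ v = s ∨ ∃ k, k * v * k⁻¹ = r1 := by decide +kernel
theorem V_A : ∀ v ∈ V, Cm r1 v ∧ B1 v ∈ V := by decide +kernel
theorem V_U1 : ∀ w : H, w * w = 1 → w ∈ V ∨ (∃ k, k * w * k⁻¹ = r2 ∨ k * w * k⁻¹ = r3) ∨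
    ∃ k, Cm r1 (k * w * k⁻¹) ∧ ∃ k', k' * B1 (k * w * k⁻¹) * k'⁻¹ = r2 ∨
      k' * B1 (k * w * k⁻¹) * k'⁻¹ = r3 := by decide +kernel
theorem V_U2 : ∀ u, u = r2 ∨ u = r3 → (∃ v ∈ V, v * u * v⁻¹ * u⁻¹ = s) ∧
    (∀ v ∈ V, v * u * v⁻¹ * u⁻¹ = 1 ∨ v * u * v⁻¹ * u⁻¹ = s) ∧
    ∃ e ∈ V, e ≠ 1 ∧ e ≠ s ∧ e * u = u * e := by decide +kernel
theorem V2_sq : ∀ u ∈ V2, u * u = 1 := by decide +kernel
theorem V2_A : ∀ v ∈ V2, Cm r2 v ∧ B2 v ∈ V2 := by decide +kernel
theorem V_cent' : ∀ k : H, (∀ u ∈ V, k * u * k⁻¹ = u) → k ∈ V := by decide +kernel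
theorem V2_cent : ∀ k : H, (∀ u ∈ V2, k * u * k⁻¹ = u) → k ∈ V2 := by decide +kernel
theorem E_cent : ∀ k : H, (∀ u ∈ E, k * u * k⁻¹ = u) → k ∈ E := by decide +kernel
theorem E_facts : ∀ w ∈ E, Cm r1 w ∧ Cm r2 w ∧ B1 w ∈ E ∧ B2 w ∈ E ∧ B1 (B1 (B1 w)) = w ∧
    B2 (B2 (B2 w)) = w ∧ B1 (B2 w) = B2 (B1 w) := by decide +kernel
theorem E_comm : ∀ k ∈ E, Cm r1 (τ1 * k * τ1⁻¹) ∧ Cm r2 (τ3 * k * τ3⁻¹) ∧
    (B1 (τ1 * k * τ1⁻¹) = k⁻¹ → B2 (τ3 * k * τ3⁻¹) = k⁻¹ → k = 1 ∨ k = k0) := by decide +kernel

theorem invs : ∀ w : H, w * w = 1 → w = 1 ∨ St w ∨ Ut w := by decide +kernel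
theorem St_cls : ∀ w, St w → w = s ∨ ∃ k, k * w * k⁻¹ = r1 ∨ k * w * k⁻¹ = r2 ∨ k * w * k⁻¹ = t1 := by
  decide +kernel
theorem Ut_cls : ∀ w, Ut w → ∃ k, k * w * k⁻¹ = r3 ∨ k * w * k⁻¹ = a1 := by decide +kernel
theorem T_pow : ∀ w, Cm r3 w ∨ Cm a1 w ∨ Cm (B1 r3) w → w ^ 2 ^ 2 = 1 := by decide +kernel
theorem T_cen : ∀ w, St w → (∀ v, Cm r3 v → v * w = w * v) → w = s := by decide +kernel
theorem T_card : {w | w * r3 = r3 * w}.ncard = 32 := (RG.ncard_eq _).trans (by decide +kernel)
theorem T_four : ∀ w, Cm r3 w → Ut w → Ut (w * r3) → w = a0 ∨ w = a0 * r3 ∨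
    ∀ v, St v → Cm r3 v → Cm w v → v = s := by decide +kernel
theorem T_d8 : ∀ k, Cm r3 k → ∃ i : Fin 4, k⁻¹ * ρ0 ^ i.val ∈ F0 ∨ k⁻¹ * (σ0 * ρ0 ^ i.val) ∈ F0 := by
  decide +kernel
theorem F_facts : ∀ e ∈ F0, (e = 1 ∨ e = r3 ∨ e = a0 ∨ e = a0 * r3) ∧ Cm r3 e ∧ Cm a0 e ∧ e * e = 1 ∧
    (Ut (e * ρ0 ^ 2) → e = 1) ∧ ¬ St (e * τ2 * r3) := by decide +kernel
theorem U_facts : ∀ e ∈ U0, Cm r3 e ∧ Cm a0 e := by decide +kernel

end CL.E32.Bp
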